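import Cfsg.Agent.Lib.Fischer.Relations.ThreeA.Group

/-!
# Commuting members below two non-commuting ones in type M(23)

At most seven commute pairwise: two of them take us to a unitary space of dimension six, where the others
span at most a totally isotropic line perpendicular to a hyperbolic pair.
-/

set_option autoImplicit false
set_option linter.unusedSectionVars false

namespace Cfsg.Lib.Fischer.Relations.ThreeA

open Module Cfsg Cfsg.Lib.Fischer Cfsg.Lib.Linear.Herm Cfsg.Lib.Fischer.RadicalAbelian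

variable {G : Type*} [Group G] [Finite G] {D : Set G}
  {F : Type} [Field F] [Fintype F] {hF : Fintype.card F = 2 ^ 2} {d : G}

/-- Points orthogonal to a hyperbolic pair and to each other: at most five. -/
theorem five_le (C : Coord D d hF) {p q : G} (hp : p ∈ perp D d) (hq : q ∈ perp D d) (hpq : ¬ Commute p q)
    {E : Set G} (hE : E ⊆ perp D d) (hc : ∀ u ∈ E, ∀ v ∈ E, Commute u v)
    (hEp : ∀ u ∈ E, Commute p u) (hEq : ∀ u ∈ E, Commute q u) : E.ncard ≤ 5 := by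
  classical
  have hK := fourField hF
  obtain ⟨W, hW⟩ : ∃ W, W = Submodule.span F (C.U.c '' E) := ⟨_, rfl⟩
  have hmem : ∀ e ∈ E, C.U.c e ∈ W := fun e he => hW ▸ Submodule.subset_span ⟨e, he, rfl⟩
  obtain ⟨W', hW'⟩ : ∃ W', W' = Submodule.span F (insert (C.U.c p) (C.U.c '' E)) := ⟨_, rfl⟩
  have hperp : ∀ r ∈ perp D d, (∀ u ∈ E, Commute r u) → ∀ w ∈ W, hB hF 6 (C.U.c r) w = 0 := by
    intro r hr hru w hw
    rw [hW] at hw
    induction hw using Submodule.span_induction with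
    | mem w hw => obtain ⟨b, hb, rfl⟩ := hw; exact (C.U.comm r hr b (hE hb)).1 (hru b hb)
    | zero => simp
    | add x y _ _ h1 h2 => rw [map_add, h1, h2, add_zero]
    | smul k x _ h1 => rw [map_smul, h1, smul_zero]
  have horth : ∀ v ∈ W', ∀ w ∈ W', hB hF 6 v w = 0 := by
    have hgen : ∀ a ∈ insert p E, ∀ b ∈ insert p E, hB hF 6 (C.U.c a) (C.U.c b) = 0 := by
      have hin : ∀ a ∈ insert p E, a ∈ perp D d := by
        rintro a (rfl | ha)
        exacts [hp, hE ha]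
      intro a ha b hb
      refine (C.U.comm a (hin a ha) b (hin b hb)).1 ?_
      rcases ha with rfl | ha <;> rcases hb with rfl | hb
      exacts [Commute.refl _, hEp b hb, (hEp a ha).symm, hc a ha b hb]
    rw [← Set.image_insert_eq] at hW'
    intro v hv w hw
    rw [hW'] at hv hw
    induction hv using Submodule.span_induction with
    | mem v hv =>
      obtain ⟨a, ha, rfl⟩ := hv
      induction hw using Submodule.span_induction with
      | mem w hw => obtain ⟨b, hb, rfl⟩ := hw; exact hgen a ha b hb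
      | zero => simp
      | add x y _ _ h1 h2 => rw [map_add, h1, h2, add_zero]
      | smul k x _ h1 => rw [map_smul, h1, smul_zero]
    | zero => simp
    | add x y _ _ h1 h2 => rw [map_add, LinearMap.add_apply, h1, h2, add_zero]
    | smul k x _ h1 => rw [LinearMap.map_smulₛₗ, LinearMap.smul_apply, h1, smul_zero]
  have hdim : finrank F W' ≤ 3 := by
    by_contra hlt
    obtain ⟨a, ha, -, b, hb, hab⟩ := exists_iso_pairing hK.ne_id hK.invol (hB_isSymm hF 6)
      (hB_nondegenerate hF 6) W' (by rw [finrank_fin_fun]; omega)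
    exact hab (horth a ha b hb)
  have hlt : W < W' := by
    refine lt_of_le_of_ne (by rw [hW, hW']; exact Submodule.span_mono (Set.subset_insert _ _)) fun e => hpq ?_
    have hpW : C.U.c p ∈ W := e ▸ hW' ▸ Submodule.subset_span (Set.mem_insert _ _)
    exact ((C.U.comm q hq p hp).2 (hperp q hq hEq _ hpW)).symm
  have hdimW : finrank F W ≤ 2 := by have := Submodule.finrank_lt_finrank_of_lt hlt; omega
  have hFu : Nat.card Fˣ = 3 := by rw [Nat.card_units, Nat.card_eq_fintype_card, hF]; norm_num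
  obtain ⟨f, hf⟩ : ∃ f : ↥E × Fˣ → ↥W, ∀ p, (f p : Fin 6 → F) = (p.2 : F) • C.U.c p.1 :=
    ⟨fun p => ⟨_, W.smul_mem _ (hmem _ p.1.2)⟩, fun _ => rfl⟩
  have hinj : Function.Injective f := by
    rintro ⟨s, k⟩ ⟨t, l⟩ h
    have e : (k : F) • C.U.c s = (l : F) • C.U.c t := by
      simpa only [hf] using congrArg (fun w : ↥W => (w : Fin 6 → F)) h
    have hst : s = t := Subtype.ext (C.U.inj _ (hE s.2) _ (hE t.2) ((l : F)⁻¹ * k) (by
      rw [mul_smul, e, smul_smul, inv_mul_cancel₀ l.ne_zero, one_smul]))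
    subst hst
    simp only [Prod.mk.injEq, true_and]
    exact Units.ext (smul_left_injective F (C.U.ne _ (hE s.2)) e)
  have hcard : Nat.card (↥E × Fˣ) < Nat.card ↥W := by
    have := Fintype.ofFinite (↥E × Fˣ)
    have := Fintype.ofFinite ↥W
    rw [Nat.card_eq_fintype_card, Nat.card_eq_fintype_card]
    refine Fintype.card_lt_of_injective_of_notMem f hinj (b := 0) ?_
    rintro ⟨p, hp⟩
    have := congrArg (fun w : ↥W => (w : Fin 6 → F)) hp
    simp only [hf, ZeroMemClass.coe_zero, smul_eq_zero, Units.ne_zero, false_or] at this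
    exact C.U.ne _ (hE p.1.2) this
  have hW16 : Nat.card ↥W ≤ 16 := by
    rw [Module.natCard_eq_pow_finrank (K := F), Nat.card_eq_fintype_card, hF]
    calc (2 ^ 2) ^ finrank F ↥W ≤ (2 ^ 2) ^ 2 := Nat.pow_le_pow_right (by norm_num) hdimW
      _ = 16 := by norm_num
  rw [Nat.card_prod, hFu, Nat.card_coe_set_eq] at hcard
  omega

/-- Five commuting points perpendicular to some hyperbolic pair. -/
theorem exists_five_perp (C : Coord D d hF) : ∃ p q : G, p ∈ perp D d ∧ q ∈ perp D d ∧ ¬ Commute p q ∧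
    ∃ E : Set G, E ⊆ perp D d ∧ (∀ u ∈ E, ∀ v ∈ E, Commute u v) ∧
      (∀ u ∈ E, Commute p u ∧ Commute q u) ∧ E.ncard = 5 := by
  classical
  have hK := fourField hF
  have h2 : (2 : F) = 0 := hK.two
  have hS := hB_isSymm hF 6
  have hB' := hB_nondegenerate hF 6
  have h5 : 5 ≤ finrank F (Fin 6 → F) := by rw [finrank_fin_fun]; norm_num
  have get : ∀ v : Fin 6 → F, v ≠ 0 → hB hF 6 v v = 0 → ∃ s ∈ perp D d, ∃ k : F, k ≠ 0 ∧ C.U.c s = k • v :=
    fun v h1 h3 => C.exists_point h1 h3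
  obtain ⟨vp, hvp⟩ : ∃ v : Fin 6 → F, v = ![1, 1, 0, 0, 0, 0] := ⟨_, rfl⟩
  obtain ⟨vq, hvq⟩ : ∃ v : Fin 6 → F, v = ![1, 0, 1, 0, 0, 0] := ⟨_, rfl⟩
  obtain ⟨vr, hvr⟩ : ∃ v : Fin 6 → F, v = ![0, 0, 0, 1, 1, 0] := ⟨_, rfl⟩
  obtain ⟨vs, hvs⟩ : ∃ v : Fin 6 → F, v = ![1, 1, 1, 0, 0, 1] := ⟨_, rfl⟩
  have hb : hB hF 6 vp vp = 0 ∧ hB hF 6 vq vq = 0 ∧ hB hF 6 vr vr = 0 ∧ hB hF 6 vs vs = 0 ∧
      hB hF 6 vp vq ≠ 0 ∧ hB hF 6 vp vr = 0 ∧ hB hF 6 vq vr = 0 ∧ hB hF 6 vp vs = 0 ∧ hB hF 6 vq vs = 0 ∧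
      hB hF 6 vr vs = 0 := by
    subst hvp hvq hvr hvs
    simp only [hB_apply, Cfsg.hermForm, Fin.sum_univ_six, Matrix.cons_val_zero, Matrix.cons_val_one,
      Matrix.cons_val]
    simp [one_add_one_eq_two, h2]
  obtain ⟨hpp, hqq, hrr, hss, hpq, hpr, hqr, hps, hqs, hrs⟩ := hb
  obtain ⟨p, hp, kp, hkp, ep⟩ := get vp (fun h => by simpa [hvp] using congrFun h 0) hpp
  obtain ⟨q, hq, kq, hkq, eq_⟩ := get vq (fun h => by simpa [hvq] using congrFun h 0) hqq
  obtain ⟨r, hr, kr, hkr, er⟩ := get vr (fun h => by simpa [hvr] using congrFun h 3) hrr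
  obtain ⟨s, hs, ks, hks, es⟩ := get vs (fun h => by simpa [hvs] using congrFun h 0) hss
  have hne : r ≠ s := fun h => by
    rw [← h, er] at es
    have := congrFun es 0
    simp [hvr, hvs, eq_comm, hks] at this
  have hcrs : Commute r s := (C.U.comm r hr s hs).2 (by
    rw [er, es, map_smul, LinearMap.map_smulₛₗ, LinearMap.smul_apply, hrs, smul_zero, smul_zero])
  obtain ⟨e, f, g, he, hf, hg, hnd, hcomm, hprod, -⟩ :=
    C.U.exists_five hK hS hB' h5 hr hs hne hcrs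
  have hin : ∀ u ∈ [r, s, e, f, g], u ∈ perp D d := by simp [hr, hs, he, hf, hg]
  have hspan : ∀ u ∈ [r, s, e, f, g], ∃ α β : F, C.U.c u = α • vr + β • vs := by
    intro u hu
    obtain ⟨α, β, h⟩ : ∃ α β : F, C.U.c u = α • C.U.c r + β • C.U.c s := by
      simp only [List.mem_cons, List.not_mem_nil, or_false] at hu
      rcases hu with rfl | rfl | h
      · exact ⟨1, 0, by simp⟩
      · exact ⟨0, 1, by simp⟩
      · exact C.U.five_span hK hS hB' h5 rfl hnd hin hcomm hprod (by simpa using h)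
    exact ⟨α * kr, β * ks, by rw [h, er, es, smul_smul, smul_smul]⟩
  refine ⟨p, q, hp, hq, fun h => hpq ?_, {u | u ∈ [r, s, e, f, g]}, hin, hcomm, fun u hu => ?_, ?_⟩
  · have h' := (C.U.comm p hp q hq).1 h
    rw [ep, eq_, map_smul, LinearMap.map_smulₛₗ, LinearMap.smul_apply, smul_eq_mul, smul_eq_mul] at h'
    simpa [hkp, hkq] using h'
  · obtain ⟨α, β, h⟩ := hspan u hu
    constructor
    · refine (C.U.comm p hp u (hin u hu)).2 ?_
      rw [ep, h, LinearMap.map_smulₛₗ, LinearMap.smul_apply, map_add, map_smul, map_smul, hpr, hps, smul_zero,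
        smul_zero, add_zero, smul_zero]
    · refine (C.U.comm q hq u (hin u hu)).2 ?_
      rw [eq_, h, LinearMap.map_smulₛₗ, LinearMap.smul_apply, map_add, map_smul, map_smul, hqr, hqs, smul_zero,
        smul_zero, add_zero, smul_zero]
  · rw [show {u | u ∈ [r, s, e, f, g]} = ((([r, s, e, f, g] : List G).toFinset : Finset G) : Set G) by
      ext; simp, Set.ncard_coe_finset, List.toFinset_card_of_nodup hnd]
    rfl

/-- The width of the common neighbours of two non-commuting members. -/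
theorem width_common (hT : Trans D) (hprim : Cfsg.IsPrimitiveUnderConj D) (h23 : Cfsg.IsOfTypeM23 G D)
    {a d : G} (ha : a ∈ D) (hd : d ∈ D) (hnc : ¬ Commute a d) :
    Cfsg.commutingWidth (common D a d) = 7 := by
  classical
  obtain ⟨d₀, K⟩ := m23_data hT hprim h23 fun c hc Q hQ =>
    Dvd.dvd.trans (by norm_num) (ReflSeven.quot_dvd Q hQ hc)
  obtain ⟨F, _, _, hF, b, ⟨C⟩⟩ := exists_coord23 K
  have hsub : ∀ x ∈ perp D d₀, x ∈ D := fun x hx => hx.1
  refine le_antisymm ?_ ?_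
  · obtain ⟨E, hE, hc, hn⟩ := exists_width (common D a d)
    rw [← hn]
    by_contra hlt
    obtain ⟨e, he⟩ : E.Nonempty := Set.nonempty_of_ncard_ne_zero (by omega)
    obtain ⟨g₁, hg₁⟩ := hT.trans e (hE he).1.1 d₀ K.mem
    obtain ⟨f, hf, hfe⟩ : ∃ f ∈ E, f ≠ e := Set.exists_ne_of_one_lt_ncard (by omega) e
    have hfp : g₁ * f * g₁⁻¹ ∈ perp D d₀ :=
      hg₁ ▸ conj_perp K.fis g₁ e ⟨(hE hf).1.1, hfe, hc e he f hf⟩
    obtain ⟨k, hk, hkf⟩ := perp_transitive K.fis K.mem hfp C.bmem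
    obtain ⟨g, hg⟩ : ∃ g, g = k * g₁ := ⟨_, rfl⟩
    have hge : g * e * g⁻¹ = d₀ := by
      rw [hg, show k * g₁ * e * (k * g₁)⁻¹ = k * (g₁ * e * g₁⁻¹) * k⁻¹ by group, hg₁,
        (K.commute_of_mem hk).eq, mul_inv_cancel_right]
    have hgf : g * f * g⁻¹ = b := by
      rw [hg, show k * g₁ * f * (k * g₁)⁻¹ = k * (g₁ * f * g₁⁻¹) * k⁻¹ by group, hkf]
    have hp : ∀ u ∈ D, u ≠ e → Commute e u → g * u * g⁻¹ ∈ perp D d₀ := fun u hu h1 h2 =>
      hge ▸ conj_perp K.fis g e ⟨hu, h1, h2⟩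
    have hpa := hp a ha (fun h => (hE he).1.2.1 h.symm) (hE he).1.2.2.symm
    have hpd := hp d hd (fun h => hnc (h ▸ (hE he).1.2.2)) (hE he).2.symm
    have hin : ∀ u (hu : u ∈ perp D d₀), Commute b u → u ≠ b →
        bar hu ∈ perp (image (perp D d₀)) (bar C.bmem) := fun u hu h1 h2 =>
      ⟨bar_mem hu, fun h => h2 (bar_inj hT hsub K.nc hu C.bmem h), (C.data.bar_comm C.bmem hu).1 h1⟩
    have hA := hin _ hpa (hgf ▸ (Commute.conj_iff g).2 (hE hf).1.2.2.symm)
      (fun h => (hE hf).1.2.1 ((MulAut.conj g).injective (hgf.trans h.symm)))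
    have hD' := hin _ hpd (hgf ▸ (Commute.conj_iff g).2 (hE hf).2.symm)
      (fun h => hnc ((MulAut.conj g).injective (h.trans hgf.symm) ▸ (hE hf).1.2.2))
    obtain ⟨E', hE'⟩ : ∃ E', E' = {y | ∃ u ∈ E, u ≠ e ∧ u ≠ f ∧ ∃ h : g * u * g⁻¹ ∈ perp D d₀, y = bar h} :=
      ⟨_, rfl⟩
    have hcm : ∀ u v (hu : g * u * g⁻¹ ∈ perp D d₀) (hv : g * v * g⁻¹ ∈ perp D d₀), Commute u v →
        Commute (bar hu) (bar hv) := fun u v hu hv h => (C.data.bar_comm hu hv).1 ((Commute.conj_iff g).2 h)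
    have h5 := five_le C.co hA hD' (fun h => hnc ((Commute.conj_iff g).1 ((C.data.bar_comm hpa hpd).2 h))) (E := E')
      (by
        rw [hE']
        rintro _ ⟨u, hu, -, huf, h, rfl⟩
        exact hin _ h (hgf ▸ (Commute.conj_iff g).2 (hc f hf u hu))
          fun h' => huf ((MulAut.conj g).injective (h'.trans hgf.symm)))
      (by
        rw [hE']
        rintro _ ⟨u, hu, -, -, h, rfl⟩ _ ⟨v, hv, -, -, h', rfl⟩
        exact hcm u v h h' (hc u hu v hv))
      (by rw [hE']; rintro _ ⟨u, hu, -, -, h, rfl⟩; exact hcm a u hpa h (hE hu).1.2.2)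
      (by rw [hE']; rintro _ ⟨u, hu, -, -, h, rfl⟩; exact hcm d u hpd h (hE hu).2)
    have hcount : E'.ncard = ((E \ {e}) \ {f}).ncard := by
      refine (Set.ncard_congr (fun u hu => bar (hp u (hE hu.1.1).1.1 hu.1.2 (hc e he u hu.1.1))) ?_ ?_ ?_).symm
      · intro u hu
        rw [hE']
        exact ⟨u, hu.1.1, hu.1.2, hu.2, _, rfl⟩
      · intro u v hu hv h
        exact (MulAut.conj g).injective (bar_inj hT hsub K.nc (hp u (hE hu.1.1).1.1 hu.1.2 (hc e he u hu.1.1))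
          (hp v (hE hv.1.1).1.1 hv.1.2 (hc e he v hv.1.1)) h)
      · rw [hE']
        rintro _ ⟨u, hu, h1, h2, h, rfl⟩
        exact ⟨u, ⟨⟨hu, h1⟩, h2⟩, rfl⟩
    rw [Set.ncard_sdiff_singleton_of_mem (show f ∈ E \ {e} from ⟨hf, hfe⟩),
      Set.ncard_sdiff_singleton_of_mem he] at hcount
    omega
  · obtain ⟨p', q', hp', hq', hpq', E', hE', hc', hperp', hn'⟩ := exists_five_perp C.co
    obtain ⟨p, hpp, ep⟩ := exists_bar hp'.1
    obtain ⟨q, hqp, eq_⟩ := exists_bar hq'.1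
    obtain ⟨E, hE⟩ : ∃ E, E = {u | ∃ h : u ∈ perp D d₀, bar h ∈ E'} := ⟨_, rfl⟩
    have hEc : E.ncard = 5 := by
      rw [← hn']
      refine Set.ncard_congr (fun u hu => bar ((hE ▸ hu : u ∈ {u | ∃ h : u ∈ perp D d₀, bar h ∈ E'})).choose)
        (fun u hu => ((hE ▸ hu : u ∈ {u | ∃ h : u ∈ perp D d₀, bar h ∈ E'})).choose_spec)
        (fun u v hu hv h => bar_inj hT hsub K.nc _ _ h) fun y hy => ?_
      obtain ⟨u, hu, rfl⟩ := exists_bar (hE' hy).1
      exact ⟨u, hE ▸ ⟨hu, hy⟩, rfl⟩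
    have hcomm : ∀ u (hu : u ∈ perp D d₀) v (hv : v ∈ perp D d₀), Commute (bar hu) (bar hv) → Commute u v :=
      fun u hu v hv h => (C.data.bar_comm hu hv).2 h
    have hbp : Commute b p := hcomm b C.bmem p hpp (ep.symm ▸ hp'.2.2)
    have hbq : Commute b q := hcomm b C.bmem q hqp (eq_.symm ▸ hq'.2.2)
    have hpq : ¬ Commute p q := fun h => hpq' (ep ▸ eq_ ▸ (C.data.bar_comm hpp hqp).1 h)
    obtain ⟨W, hW⟩ : ∃ W, W = insert d₀ (insert b E) := ⟨_, rfl⟩
    have hEp : ∀ u ∈ E, u ∈ perp D d₀ ∧ Commute b u ∧ u ≠ b ∧ Commute p u ∧ Commute q u := by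
      intro u hu
      rw [hE] at hu
      obtain ⟨h, hu'⟩ := hu
      refine ⟨h, hcomm b C.bmem u h (hE' hu').2.2, fun e => ?_, hcomm p hpp u h (ep.symm ▸ (hperp' _ hu').1),
        hcomm q hqp u h (eq_.symm ▸ (hperp' _ hu').2)⟩
      subst e
      exact (hE' hu').2.1 rfl
    have hWc : W.ncard = 7 := by
      rw [hW, Set.ncard_insert_of_notMem, Set.ncard_insert_of_notMem (fun h => (hEp b h).2.2.1 rfl), hEc]
      rintro (h | h)
      · exact C.bmem.2.1 h.symm
      · exact (hEp _ h).1.2.1 rfl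
    have hWsub : W ⊆ common D p q := by
      rw [hW]
      rintro u (rfl | rfl | hu)
      · exact ⟨⟨K.mem, hpp.2.1.symm, hpp.2.2.symm⟩, hqp.2.2.symm⟩
      · refine ⟨⟨C.bmem.1, fun h => hp'.2.1 ?_, hbp.symm⟩, hbq.symm⟩
        subst h
        exact ep.symm
      · obtain ⟨h1, -, -, h4, h5⟩ := hEp u hu
        exact ⟨⟨h1.1, fun h => hpq (h ▸ h5).symm, h4⟩, h5⟩
    have hWcomm : ∀ u ∈ W, ∀ v ∈ W, Commute u v := by
      rw [hW]
      rintro u (rfl | rfl | hu) v (rfl | rfl | hv)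
      · exact Commute.refl _
      · exact C.bmem.2.2
      · exact (hEp v hv).1.2.2
      · exact C.bmem.2.2.symm
      · exact Commute.refl _
      · exact (hEp v hv).2.1
      · exact (hEp u hu).1.2.2.symm
      · exact (hEp u hu).2.1.symm
      · rw [hE] at hu hv
        obtain ⟨hu1, hu2⟩ := hu
        obtain ⟨hv1, hv2⟩ := hv
        exact hcomm u hu1 v hv1 (hc' _ hu2 _ hv2)
    obtain ⟨g₁, hg₁⟩ := hT.trans p hpp.1 a ha
    obtain ⟨g₂, hg₂, hg₂e⟩ := orb_all K.fis ha (hT.conj g₁ q hqp.1) hd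
      (fun h => hpq ((Commute.conj_iff g₁).1 (hg₁.symm ▸ h))) hnc
    have hg₂a : Commute g₂ a := commute_of_mem_closure K.fis ha hg₂
    rw [← hWc, ← Set.ncard_image_of_injective W (MulAut.conj (g₂ * g₁)).injective]
    refine le_width ?_ ?_
    · have e1 : g₂ * g₁ * p * (g₂ * g₁)⁻¹ = a := by
        rw [show g₂ * g₁ * p * (g₂ * g₁)⁻¹ = g₂ * (g₁ * p * g₁⁻¹) * g₂⁻¹ by group, hg₁, hg₂a.eq,
          mul_inv_cancel_right]
      have e2 : g₂ * g₁ * q * (g₂ * g₁)⁻¹ = d := by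
        rw [show g₂ * g₁ * q * (g₂ * g₁)⁻¹ = g₂ * (g₁ * q * g₁⁻¹) * g₂⁻¹ by group, hg₂e]
      rw [← e1, ← e2, ← common_conj hT]
      exact Set.image_mono hWsub
    · rintro _ ⟨u, hu, rfl⟩ _ ⟨v, hv, rfl⟩
      exact (Commute.conj_iff _).2 (hWcomm u hu v hv)

end Cfsg.Lib.Fischer.Relations.ThreeA
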