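import Cfsg.Agent.Lib.Fischer.Relations.ThreeA.SixGroup
import Cfsg.Agent.Lib.Fischer.Relations.ThreeA.Width
import Cfsg.Agent.Lib.Fischer.Relations.Centralizer.Main

/-!
# The normalizer of a product of two non-commuting members in type M(22)
-/

set_option autoImplicit false
set_option linter.unusedSectionVars false

namespace Cfsg.Lib.Fischer.Relations.ThreeA

open Cfsg Cfsg.Lib.Fischer Cfsg.Lib.Fischer.RadicalAbelian

variable {G : Type*} [Group G] [Finite G] {D : Set G}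

/-- Only three members invert the product: one that does commutes with every common neighbour. -/
theorem inverters_eq_of_trace (hT : Trans D) (htr : TraceUnique D) {a d : G} (ha : a ∈ D) (hd : d ∈ D)
    (hnc : ¬ Commute a d) : inverters D (a * d) = {a, d, cj a d} := by
  classical
  obtain ⟨x, hx⟩ : ∃ x, x = a * d := ⟨_, rfl⟩
  obtain ⟨T, hTdef⟩ : ∃ T, T = inverters D x := ⟨_, rfl⟩
  rw [← hx, ← hTdef]
  have hTmem : ∀ u, u ∈ T ↔ u ∈ D ∧ u * x * u⁻¹ = x⁻¹ := fun u => by rw [hTdef]; rfl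
  have haa := mul_self hT ha
  have hdd := mul_self hT hd
  have hai := inv_eq hT ha
  have hdi := inv_eq hT hd
  have hxi : x⁻¹ = d * a := by rw [hx, mul_inv_rev, hai, hdi]
  have haT : a ∈ T := (hTmem a).2 ⟨ha, by rw [hxi, hx, hai, ← mul_assoc, haa, one_mul]⟩
  have hdT : d ∈ T := (hTmem d).2 ⟨hd, by rw [hxi, hx, hdi, mul_assoc, mul_assoc, hdd, mul_one]⟩
  have hcl : ∀ u ∈ T, ∀ v ∈ T, cj u v ∈ T := by
    intro u hu v hv
    obtain ⟨huD, hux⟩ := (hTmem u).1 hu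
    obtain ⟨hvD, hvx⟩ := (hTmem v).1 hv
    refine (hTmem _).2 ⟨cj_mem hT huD hvD, ?_⟩
    rw [cj_conj hT huD]
    have h1 := congrArg (fun z => u * z * u⁻¹) hvx
    rw [show u * (v * x * v⁻¹) * u⁻¹ = (u * v * u⁻¹) * (u * x * u⁻¹) * (u * v * u⁻¹)⁻¹ by group,
      show u * x⁻¹ * u⁻¹ = (u * x * u⁻¹)⁻¹ by group, hux, inv_inv] at h1
    have h2 := congrArg (·⁻¹) h1
    rw [← h2]
    group
  have hstab : ∀ k : G, Commute k a → Commute k d → ∀ u ∈ T, k * u * k⁻¹ ∈ T := by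
    intro k hka hkd u hu
    obtain ⟨huD, hux⟩ := (hTmem u).1 hu
    refine (hTmem _).2 ⟨hT.conj k u huD, ?_⟩
    have hkx : k * x * k⁻¹ = x := by rw [hx, (hka.mul_right hkd).eq, mul_inv_cancel_right]
    have h1 := congrArg (fun z => k * z * k⁻¹) hux
    rwa [show k * (u * x * u⁻¹) * k⁻¹ = (k * u * k⁻¹) * (k * x * k⁻¹) * (k * u * k⁻¹)⁻¹ by group,
      show k * x⁻¹ * k⁻¹ = (k * x * k⁻¹)⁻¹ by group, hkx] at h1
  have honly : ∀ u ∈ T, Commute a u → u = a := by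
    intro u hu hau
    obtain ⟨huD, hux⟩ := (hTmem u).1 hu
    rw [hxi, hx] at hux
    have h1 : a * cj u d = d * a := by
      rw [← hux, cj_conj hT huD,
        show u * (a * d) * u⁻¹ = (u * a * u⁻¹) * (u * d * u⁻¹) by group, ← hau.eq, mul_inv_cancel_right]
    have h2 : cj u d = cj a d := by
      calc cj u d = a * (a * cj u d) := by rw [← mul_assoc, haa, one_mul]
        _ = cj a d := by rw [h1, cj_def, mul_assoc]
    by_cases hud : Commute u d
    · exfalso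
      rw [cj_of_commute hT huD hud] at h2
      exact hnc ((cj_eq_self hT ha).1 h2.symm)
    · rw [braid hT huD hd hud, braid hT ha hd hnc] at h2
      exact (cj_inj hT hd).1 h2
  refine Set.Subset.antisymm (fun u hu => ?_) ?_
  · by_cases hua : u = a
    · exact Or.inl hua
    refine Or.inr (htr a ha d hd hnc u ((hTmem u).1 hu).1 (fun h => hua (honly u hu h)) fun s hs => ?_)
    obtain ⟨⟨hsD, hsa, hac⟩, hdc⟩ := hs
    by_contra hn
    have huD := ((hTmem u).1 hu).1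
    have h1 : cj s u ∈ T := by rw [cj_conj hT hsD]; exact hstab s hac.symm hdc.symm u hu
    rw [← braid hT huD hsD hn] at h1
    have h2 := hcl u hu _ h1
    rw [cj_cj hT huD] at h2
    exact hsa (honly s h2 hac)
  · rintro u (rfl | rfl | rfl)
    exacts [haT, hdT, hcl a haT d hdT]

/-- The width of the common neighbours. -/
theorem six_width {F : Type} [Field F] [Fintype F] {hF : Fintype.card F = 2 ^ 2} {d₀ : G} (C : Coord D d₀ hF)
    {a d : G} (ha : a ∈ D) (hd : d ∈ D) (hnc : ¬ Commute a d) :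
    Cfsg.commutingWidth (common D a d) = 6 := by
  classical
  have hT := C.trans
  refine le_antisymm ?_ ?_
  · obtain ⟨E, hE, hc, hn⟩ := exists_width (common D a d)
    rw [← hn]
    by_contra hlt
    obtain ⟨e, he⟩ : E.Nonempty := Set.nonempty_of_ncard_ne_zero (by omega)
    obtain ⟨g, hg⟩ := hT.trans e (hE he).1.1 d₀ C.mem
    have hp : ∀ u ∈ D, u ≠ e → Commute e u → g * u * g⁻¹ ∈ perp D d₀ := fun u hu h1 h2 =>
      hg ▸ conj_perp C.fis g e ⟨hu, h1, h2⟩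
    have hpa := hp a ha (fun h => (hE he).1.2.1 h.symm) (hE he).1.2.2.symm
    have hpd := hp d hd (fun h => hnc (h ▸ (hE he).1.2.2)) (hE he).2.symm
    obtain ⟨E', hE'⟩ : ∃ E', E' = (fun u => g * u * g⁻¹) '' (E \ {e}) := ⟨_, rfl⟩
    have h5 := five_le C hpa hpd (fun h => hnc ((Commute.conj_iff g).1 h)) (E := E')
      (by
        rw [hE']
        rintro _ ⟨u, ⟨hu, hue⟩, rfl⟩
        exact hp u (hE hu).1.1 hue (hc e he u hu))
      (by
        rw [hE']
        rintro _ ⟨u, ⟨hu, -⟩, rfl⟩ _ ⟨v, ⟨hv, -⟩, rfl⟩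
        exact (Commute.conj_iff g).2 (hc u hu v hv))
      (by rw [hE']; rintro _ ⟨u, ⟨hu, -⟩, rfl⟩; exact (Commute.conj_iff g).2 (hE hu).1.2.2)
      (by rw [hE']; rintro _ ⟨u, ⟨hu, -⟩, rfl⟩; exact (Commute.conj_iff g).2 (hE hu).2)
    have hi : Function.Injective (fun u => g * u * g⁻¹) := fun x y h => (MulAut.conj g).injective h
    rw [hE', Set.ncard_image_of_injective _ hi,
      Set.ncard_sdiff_singleton_of_mem he] at h5
    omega
  · obtain ⟨p, q, hp, hq, hpq, E, hE, hc, hperp, hn⟩ := exists_five_perp C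
    obtain ⟨W, hW⟩ : ∃ W, W = insert d₀ E := ⟨_, rfl⟩
    have hWc : W.ncard = 6 := by
      rw [hW, Set.ncard_insert_of_notMem (fun h => (hE h).2.1 rfl), hn]
    have hWsub : W ⊆ common D p q := by
      rw [hW]
      rintro u (rfl | hu)
      · exact ⟨⟨C.mem, hp.2.1.symm, hp.2.2.symm⟩, hq.2.2.symm⟩
      · exact ⟨⟨(hE hu).1, fun h => hpq (h ▸ (hperp u hu).2).symm, (hperp u hu).1⟩, (hperp u hu).2⟩
    have hWcomm : ∀ u ∈ W, ∀ v ∈ W, Commute u v := by
      rw [hW]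
      rintro u (rfl | hu) v (rfl | hv)
      · exact Commute.refl _
      · exact (hE hv).2.2
      · exact (hE hu).2.2.symm
      · exact hc u hu v hv
    obtain ⟨g₁, hg₁⟩ := hT.trans p hp.1 a ha
    obtain ⟨g₂, hg₂, hg₂e⟩ := orb_all C.fis ha (hT.conj g₁ q hq.1) hd
      (fun h => hpq ((Commute.conj_iff g₁).1 (hg₁.symm ▸ h))) hnc
    have hg₂a : Commute g₂ a := commute_of_mem_closure C.fis ha hg₂
    rw [← hWc, ← Set.ncard_image_of_injective W (MulAut.conj (g₂ * g₁)).injective]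
    refine le_width ?_ ?_
    · have e1 : g₂ * g₁ * p * (g₂ * g₁)⁻¹ = a := by
        rw [show g₂ * g₁ * p * (g₂ * g₁)⁻¹ = g₂ * (g₁ * p * g₁⁻¹) * g₂⁻¹ by group, hg₁, hg₂a.eq,
          mul_inv_cancel_right]
      have e2 : g₂ * g₁ * q * (g₂ * g₁)⁻¹ = d := by
        rw [show g₂ * g₁ * q * (g₂ * g₁)⁻¹ = g₂ * (g₁ * q * g₁⁻¹) * g₂⁻¹ by group, hg₂e]
      rw [← e1, ← e2, ← common_conj hT]
      exact Set.image_mono hWsub
    · rintro _ ⟨u, hu, rfl⟩ _ ⟨v, hv, rfl⟩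
      exact (Commute.conj_iff _).2 (hWcomm u hu v hv)

/-- The normalizer of the product. -/
theorem six_normalizer (hT : Trans D) (hprim : Cfsg.IsPrimitiveUnderConj D) (h22 : Cfsg.IsOfTypeM22 G D)
    {a d : G} (ha : a ∈ D) (hd : d ∈ D) (hnc : ¬ Commute a d) :
    Subgroup.closure ({a, d} : Set G) ⊓ Subgroup.centralizer ({a, d} : Set G) = ⊥ ∧
      Subgroup.closure ({a, d} : Set G) ⊔ Subgroup.centralizer ({a, d} : Set G) =
        Subgroup.normalizer (Subgroup.zpowers (a * d) : Set G) ∧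
      Nonempty (↥(Subgroup.closure ({a, d} : Set G)) ≃* Equiv.Perm (Fin 3)) ∧
      Cfsg.commutingWidth (D ∩ (Subgroup.centralizer (Subgroup.zpowers (a * d) : Set G) : Set G)) = 6 ∧
      (∃ g : G, (Subgroup.zpowers (a * d)).map (MulAut.conj g).toMonoidHom ≤ Subgroup.centralizer ({a, d} : Set G)) ∧
      ∀ g h : G, (Subgroup.zpowers (a * d)).map (MulAut.conj g).toMonoidHom ≤ Subgroup.centralizer ({a, d} : Set G) →
        (Subgroup.zpowers (a * d)).map (MulAut.conj h).toMonoidHom ≤ Subgroup.centralizer ({a, d} : Set G) →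
        ∃ k ∈ Subgroup.centralizer ({a, d} : Set G),
          ((Subgroup.zpowers (a * d)).map (MulAut.conj g).toMonoidHom).map (MulAut.conj k).toMonoidHom =
            (Subgroup.zpowers (a * d)).map (MulAut.conj h).toMonoidHom := by
  classical
  obtain ⟨hKcl, c, hc, hrefl⟩ := six_common_group hT hprim h22 ha hd hnc
  obtain ⟨⟨u₀, hu₀, v₀, hv₀, hn₀⟩, htr⟩ := common_pairs hT hKcl hc hrefl
  obtain ⟨F, _, _, hF, d₀, ⟨C⟩⟩ := m22_coord hT hprim h22
  have hTU : TraceUnique D := traceUnique_m22 C.fis C.nbr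
  have hTeq : ∀ u v : G, u ∈ D → v ∈ D → ¬ Commute u v → inverters D (u * v) = {u, v, cj u v} :=
    fun u v hu hv h => inverters_eq_of_trace hT hTU hu hv h
  obtain ⟨h1, h2, h3⟩ := normalizer_split_of hT ha hd hnc (hTeq a d ha hd hnc)
  have hmap : ∀ g : G, (Subgroup.zpowers (a * d)).map (MulAut.conj g).toMonoidHom =
      Subgroup.zpowers ((g * a * g⁻¹) * (g * d * g⁻¹)) := fun g => by
    rw [MonoidHom.map_zpowers]
    refine congrArg Subgroup.zpowers ?_
    show g * (a * d) * g⁻¹ = _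
    group
  have hin : ∀ g : G, (Subgroup.zpowers (a * d)).map (MulAut.conj g).toMonoidHom ≤
      Subgroup.centralizer ({a, d} : Set G) → g * a * g⁻¹ ∈ common D a d ∧ g * d * g⁻¹ ∈ common D a d := by
    intro g hg
    rw [hmap, Subgroup.zpowers_le, mem_centralizer_pair] at hg
    obtain ⟨hga, hgd⟩ := hg
    have hnc' : ¬ Commute (g * a * g⁻¹) (g * d * g⁻¹) := fun h => hnc ((Commute.conj_iff g).1 h)
    have hu := hT.conj g a ha
    have hv := hT.conj g d hd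
    have hcen := centralizing_eq hT hu hv hnc' (hTeq _ _ hu hv hnc')
    have hmem : ∀ y ∈ D, Commute (g * a * g⁻¹ * (g * d * g⁻¹)) y → y ∈ common D (g * a * g⁻¹) (g * d * g⁻¹) := by
      intro y hy hyc
      rw [← hcen]
      refine ⟨hy, Subgroup.mem_centralizer_iff.2 ?_⟩
      rintro z ⟨n, rfl⟩
      exact (hyc.zpow_left n).eq
    obtain ⟨⟨-, hne, hc1⟩, hc2⟩ := hmem a ha hga
    obtain ⟨⟨-, -, hc1'⟩, hc2'⟩ := hmem d hd hgd
    exact ⟨⟨⟨hu, hne.symm, hc1.symm⟩, hc1'.symm⟩,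
      ⟨hv, fun e => hnc' (e.symm ▸ hc1), hc2.symm⟩, hc2'.symm⟩
  have hT' := C.trans
  refine ⟨h1, h2, h3, ?_, ?_, fun g h hg hh => ?_⟩
  · rw [centralizing_eq hT ha hd hnc (hTeq a d ha hd hnc)]
    exact six_width C ha hd hnc
  · obtain ⟨g₁, hg₁⟩ := hT.trans a ha u₀ hu₀.1.1
    obtain ⟨g₂, hg₂, hg₂e⟩ := orb_all C.fis hu₀.1.1 (hT.conj g₁ d hd) hv₀.1.1
      (fun h => hnc ((Commute.conj_iff g₁).1 (hg₁.symm ▸ h))) hn₀
    have hg₂a : Commute g₂ u₀ := commute_of_mem_closure C.fis hu₀.1.1 hg₂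
    refine ⟨g₂ * g₁, ?_⟩
    rw [hmap, show g₂ * g₁ * a * (g₂ * g₁)⁻¹ = g₂ * (g₁ * a * g₁⁻¹) * g₂⁻¹ by group, hg₁, hg₂a.eq,
      mul_inv_cancel_right, show g₂ * g₁ * d * (g₂ * g₁)⁻¹ = g₂ * (g₁ * d * g₁⁻¹) * g₂⁻¹ by group, hg₂e,
      Subgroup.zpowers_le, ← hKcl]
    exact mul_mem (Subgroup.subset_closure hu₀) (Subgroup.subset_closure hv₀)
  · obtain ⟨hgu, hgv⟩ := hin g hg
    obtain ⟨hhu, hhv⟩ := hin h hh
    obtain ⟨k, hk, k1, k2⟩ := htr _ hgu _ hgv _ hhu _ hhv (fun e => hnc ((Commute.conj_iff g).1 e))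
      (fun e => hnc ((Commute.conj_iff h).1 e))
    refine ⟨k, hk, ?_⟩
    rw [hmap, hmap, MonoidHom.map_zpowers]
    refine congrArg Subgroup.zpowers ?_
    rw [← k1, ← k2]
    show k * (g * a * g⁻¹ * (g * d * g⁻¹)) * k⁻¹ = _
    group

end Cfsg.Lib.Fischer.Relations.ThreeA
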