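import Cfsg.Agent.Lib.Fischer.Relations.ThreeA.Omega
import Cfsg.Agent.Lib.Fischer.Relations.FixSet.Sym
import Cfsg.Agent.Lib.Linear.OrthSimple

/-!
# The normalizer of the product of two non-commuting members in type M(23)

The members commuting with both generate `PΩ(7, 3)`, which is their whole common centralizer; the members
inverting the product are only the three of the symmetric group of degree three.
-/

set_option autoImplicit false
set_option linter.unusedSectionVars false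

namespace Cfsg.Lib.Fischer.Relations.ThreeA

open Cfsg Cfsg.Lib.Fischer
open scoped Pointwise

variable {G : Type*} [Group G] [Finite G] {D : Set G}

theorem o73_simple : IsSimpleGroup (Cfsg.POmega (ZMod 3) (Cfsg.quadFormOdd 3 (ZMod 3))) := by
  have : Fact (Nat.Prime 3) := ⟨Nat.prime_three⟩
  obtain ⟨B, C⟩ := Cfsg.Lib.Linear.Orth.exists_space
    (Cfsg.Lib.Linear.Orth.isQuad_odd (F := ZMod 3) 3 ReflSeven.two_ne)
  exact Cfsg.Lib.Linear.Orth.pomega_simple C (by simp)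

theorem centralizer_pair_eq (a d : G) :
    Subgroup.centralizer ({a, d} : Set G) =
      Subgroup.centralizer ({a} : Set G) ⊓ Subgroup.centralizer ({d} : Set G) := by
  ext g
  rw [mem_centralizer_pair, Subgroup.mem_inf, Subgroup.mem_centralizer_singleton_iff,
    Subgroup.mem_centralizer_singleton_iff]
  exact Iff.rfl

theorem common_conj (hT : Trans D) (g a d : G) :
    (MulAut.conj g).toMonoidHom '' common D a d = common D (g * a * g⁻¹) (g * d * g⁻¹) := by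
  ext y
  constructor
  · rintro ⟨u, ⟨⟨hu, hne, hc⟩, hc'⟩, rfl⟩
    exact ⟨⟨hT.conj g u hu, fun h => hne ((MulAut.conj g).injective h), (Commute.conj_iff g).2 hc⟩,
      (Commute.conj_iff g).2 hc'⟩
  · rintro ⟨⟨hu, hne, hc⟩, hc'⟩
    have e : g * (g⁻¹ * y * g) * g⁻¹ = y := by group
    exact ⟨g⁻¹ * y * g, ⟨⟨by simpa using hT.conj g⁻¹ y hu, fun h => hne (by rw [← e, h]),
      (Commute.conj_iff g).1 (e.symm ▸ hc)⟩, (Commute.conj_iff g).1 (e.symm ▸ hc')⟩, e⟩

/-- The group of the common neighbours of two non-commuting members. -/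
theorem common_group (hT : Trans D) (hprim : Cfsg.IsPrimitiveUnderConj D) (h23 : Cfsg.IsOfTypeM23 G D)
    {a d : G} (ha : a ∈ D) (hd : d ∈ D) (hnc : ¬ Commute a d) :
    Subgroup.closure (common D a d) = Subgroup.centralizer ({a, d} : Set G) ∧
      Nat.card ↥(Subgroup.centralizer ({a, d} : Set G)) = 4585351680 ∧
      IsSimpleGroup ↥(Subgroup.centralizer ({a, d} : Set G)) ∧
      Nonempty (↥(Subgroup.centralizer ({a, d} : Set G)) ≃* Cfsg.POmega (ZMod 3) (Cfsg.quadFormOdd 3 (ZMod 3))) := by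
  classical
  obtain ⟨d₀, K⟩ := m23_data hT hprim h23 fun c hc Q hQ =>
    Dvd.dvd.trans (by norm_num) (ReflSeven.quot_dvd Q hQ hc)
  obtain ⟨F, _, _, hF, b₀, ⟨C⟩⟩ := exists_coord23 K
  obtain ⟨c, hc, hdc, c₃, hc₃, Q, hQ, -, ⟨e⟩⟩ := K.refl
  have hH : Nat.card ↥(Subgroup.centralizer ({d₀} : Set G)) = 129123503308800 :=
    FixSet.card_centralizer_member C
  have hfar : Nat.card (far D d₀) = 28160 := by
    have h := card_class K.mem C.params
    obtain ⟨-, hDc, -, -, -⟩ := m23_order hT hprim h23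
    omega
  have hpair : Nat.card ↥(Subgroup.centralizer ({d₀, c} : Set G)) = 4585351680 := by
    have h := card_conj_orbit (K := Subgroup.centralizer ({d₀} : Set G)) (X := far D d₀)
      (x := c) ⟨hc, fun h => hdc h.symm⟩ (fun k hk y hy => by
        have hkd : Commute k d₀ := Subgroup.mem_centralizer_singleton_iff.1 hk
        refine ⟨hT.conj k y hy.1, fun h => hy.2 ((Commute.conj_iff k).1 ?_)⟩
        rwa [show k * d₀ * k⁻¹ = d₀ by rw [hkd.eq, mul_inv_cancel_right]]) (fun y hy => by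
        obtain ⟨g, hg, hge⟩ := orb_all K.fis K.mem hc hy.1 hdc (fun h => hy.2 h.symm)
        exact ⟨g, Subgroup.mem_centralizer_singleton_iff.2 (commute_of_mem_closure K.fis K.mem hg).eq, hge⟩)
    rw [hH, hfar, ← centralizer_pair_eq] at h
    omega
  obtain ⟨L, hL⟩ : ∃ L, L = Subgroup.closure (common D d₀ c) := ⟨_, rfl⟩
  rw [← hL] at e
  have hLC : L ≤ Subgroup.centralizer ({d₀, c} : Set G) := by
    rw [hL, Subgroup.closure_le]
    exact fun y hy => mem_centralizer_pair.2 ⟨hy.1.2.2.symm, hy.2.symm⟩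
  have hdvd : 4585351680 ∣ Nat.card (↥L ⧸ Subgroup.center ↥L) := by
    rw [Nat.card_congr e.toEquiv]
    exact Dvd.dvd.trans (by norm_num) (ReflSeven.quot_dvd Q hQ hc₃)
  have hmul := Subgroup.card_eq_card_quotient_mul_card_subgroup (Subgroup.center ↥L)
  have hLle : Nat.card L ≤ 4585351680 := hpair ▸ Subgroup.card_le_of_le hLC
  have hq : 4585351680 ≤ Nat.card (↥L ⧸ Subgroup.center ↥L) := Nat.le_of_dvd Nat.card_pos hdvd
  have hz : 0 < Nat.card (Subgroup.center ↥L) := Nat.card_pos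
  have hz1 : Nat.card (Subgroup.center ↥L) = 1 := by
    by_contra h
    have h2 : 2 ≤ Nat.card (Subgroup.center ↥L) := by omega
    have := Nat.mul_le_mul hq h2
    omega
  rw [hz1, mul_one] at hmul
  have hLeq : L = Subgroup.centralizer ({d₀, c} : Set G) :=
    Subgroup.eq_of_le_of_card_ge hLC (by rw [hpair]; omega)
  have hbot : Subgroup.center ↥L = ⊥ := Subgroup.card_eq_one.1 hz1
  obtain ⟨eQ⟩ := quot_iso Q hQ hc₃ (by rw [← Nat.card_congr e.toEquiv]; omega)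
  have eL : ↥L ≃* Cfsg.POmega (ZMod 3) (Cfsg.quadFormOdd 3 (ZMod 3)) :=
    (QuotientGroup.quotientBot.symm.trans (QuotientGroup.quotientMulEquivOfEq hbot.symm)).trans (e.trans eQ)
  -- transport
  obtain ⟨g₁, hg₁⟩ := hT.trans d₀ K.mem a ha
  obtain ⟨g₂, hg₂, hg₂e⟩ := orb_all K.fis ha (hT.conj g₁ c hc) hd
    (fun h => hdc ((Commute.conj_iff g₁).1 (hg₁.symm ▸ h))) hnc
  have hg₂a : Commute g₂ a := commute_of_mem_closure K.fis ha hg₂
  obtain ⟨g, hg⟩ : ∃ g, g = g₂ * g₁ := ⟨_, rfl⟩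
  have ega : g * d₀ * g⁻¹ = a := by
    rw [hg, show g₂ * g₁ * d₀ * (g₂ * g₁)⁻¹ = g₂ * (g₁ * d₀ * g₁⁻¹) * g₂⁻¹ by group, hg₁, hg₂a.eq,
      mul_inv_cancel_right]
  have egd : g * c * g⁻¹ = d := by
    rw [hg, show g₂ * g₁ * c * (g₂ * g₁)⁻¹ = g₂ * (g₁ * c * g₁⁻¹) * g₂⁻¹ by group, hg₂e]
  have hmap : (Subgroup.centralizer ({d₀, c} : Set G)).map (MulAut.conj g).toMonoidHom =
      Subgroup.centralizer ({a, d} : Set G) := by
    rw [centralizer_pair_eq, centralizer_pair_eq, Subgroup.map_inf _ _ _ (MulAut.conj g).injective,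
      FixSet.centralizer_singleton_map, FixSet.centralizer_singleton_map, ega, egd]
  obtain ⟨ψ⟩ : Nonempty (↥L ≃* ↥(Subgroup.centralizer ({a, d} : Set G))) :=
    ⟨((MulAut.conj g).subgroupMap L).trans (MulEquiv.subgroupCongr (hLeq ▸ hmap))⟩
  have hs := o73_simple
  refine ⟨?_, ?_, MulEquiv.isSimpleGroup (ψ.symm.trans eL), ⟨ψ.symm.trans eL⟩⟩
  · rw [← hmap, ← hLeq, hL, MonoidHom.map_closure, common_conj hT, ega, egd]
  · rw [← hmap, Subgroup.card_map_of_injective (MulAut.conj g).injective, hpair]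

/-- The set of members inverting a product of two non-commuting members. -/
def inverters (D : Set G) (x : G) : Set G := {u | u ∈ D ∧ u * x * u⁻¹ = x⁻¹}

theorem order_three (hT : Trans D) {a d : G} (ha : a ∈ D) (hd : d ∈ D) (hnc : ¬ Commute a d) :
    orderOf (a * d) = 3 := by
  have : Fact (Nat.Prime 3) := ⟨Nat.prime_three⟩
  refine orderOf_eq_prime ((hT.set.2 a ha d hd).resolve_left fun h => hnc ?_) fun h => hnc ?_
  · rw [pow_two, ← eq_inv_iff_mul_eq_one, mul_inv_rev, inv_eq hT ha, inv_eq hT hd] at h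
    exact h
  · rw [mul_eq_one_iff_eq_inv, inv_eq hT hd] at h
    rw [h]

theorem mem_normalizer_iff_pm (hT : Trans D) {a d : G} (ha : a ∈ D) (hd : d ∈ D) (hnc : ¬ Commute a d) {n : G} :
    n ∈ Subgroup.normalizer (Subgroup.zpowers (a * d) : Set G) ↔
      n * (a * d) * n⁻¹ = a * d ∨ n * (a * d) * n⁻¹ = (a * d)⁻¹ := by
  have ho := order_three hT ha hd hnc
  obtain ⟨x, hx⟩ : ∃ x, x = a * d := ⟨_, rfl⟩
  rw [← hx] at ho ⊢
  constructor
  · intro hn
    obtain ⟨k, hk⟩ := (Subgroup.mem_normalizer_iff.1 hn x).1 (Subgroup.mem_zpowers x)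
    have hk' : x ^ (k % 3) = n * x * n⁻¹ := by
      rw [← hk, show (3 : ℤ) = ((orderOf x : ℕ) : ℤ) by rw [ho]; norm_num, zpow_mod_orderOf]
    have h0 : 0 ≤ k % 3 := Int.emod_nonneg k (by norm_num)
    have h1 : k % 3 < 3 := Int.emod_lt_of_pos k (by norm_num)
    interval_cases h : k % 3
    · rw [zpow_zero, eq_comm, conj_eq_one_iff] at hk'
      rw [hk', orderOf_one] at ho
      norm_num at ho
    · exact Or.inl (by rw [← hk', zpow_one])
    · refine Or.inr (hk'.symm.trans (eq_inv_of_mul_eq_one_left ?_))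
      show x ^ (2 : ℤ) * x = 1
      rw [show (2 : ℤ) = ((2 : ℕ) : ℤ) by norm_num, zpow_natCast, ← pow_succ]
      show x ^ 3 = 1
      rw [← ho, pow_orderOf_eq_one]
  · intro h
    refine FixSet.mem_normalizer_of_map (Subgroup.eq_of_le_of_card_ge ?_
      (by rw [Subgroup.card_map_of_injective (MulAut.conj n).injective]))
    rintro _ ⟨_, ⟨k, rfl⟩, rfl⟩
    show n * x ^ k * n⁻¹ ∈ _
    rw [← conj_zpow]
    rcases h with h | h <;> rw [h]
    · exact ⟨k, rfl⟩
    · rw [inv_zpow]; exact inv_mem ⟨k, rfl⟩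

/-- The three members. -/
theorem inverters_eq (hT : Trans D) (hprim : Cfsg.IsPrimitiveUnderConj D) (h23 : Cfsg.IsOfTypeM23 G D)
    {a d : G} (ha : a ∈ D) (hd : d ∈ D) (hnc : ¬ Commute a d) :
    inverters D (a * d) = {a, d, cj a d} ∧
      Nat.card ↥(Subgroup.normalizer (Subgroup.zpowers (a * d) : Set G)) = 6 * 4585351680 := by
  classical
  obtain ⟨hcl0, hKc, hKs, -⟩ := common_group hT hprim h23 ha hd hnc
  obtain ⟨-, -, hGc, -, -⟩ := m23_order hT hprim h23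
  obtain ⟨d₀, K23⟩ := m23_data hT hprim h23 fun c hc Q hQ =>
    Dvd.dvd.trans (by norm_num) (ReflSeven.quot_dvd Q hQ hc)
  obtain ⟨x, hx⟩ : ∃ x, x = a * d := ⟨_, rfl⟩
  obtain ⟨T, hTdef⟩ : ∃ T, T = inverters D x := ⟨_, rfl⟩
  obtain ⟨N, hN⟩ : ∃ N, N = Subgroup.normalizer (Subgroup.zpowers x : Set G) := ⟨_, rfl⟩
  obtain ⟨K, hK⟩ : ∃ K, K = Subgroup.centralizer ({a, d} : Set G) := ⟨_, rfl⟩
  have hNiff : ∀ n, n ∈ N ↔ n * x * n⁻¹ = x ∨ n * x * n⁻¹ = x⁻¹ := fun n => by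
    rw [hN, hx]; exact mem_normalizer_iff_pm hT ha hd hnc
  rw [← hx, ← hN, ← hTdef]
  rw [← hK] at hKc hKs hcl0
  have hTmem : ∀ u, u ∈ T ↔ u ∈ D ∧ u * x * u⁻¹ = x⁻¹ := fun u => by rw [hTdef]; rfl
  have haa : a * a = 1 := mul_self hT ha
  have hdd : d * d = 1 := mul_self hT hd
  have hai := inv_eq hT ha
  have hdi := inv_eq hT hd
  have hxi : x⁻¹ = d * a := by rw [hx, mul_inv_rev, hai, hdi]
  have haT : a ∈ T := (hTmem a).2 ⟨ha, by rw [hxi, hx, hai, ← mul_assoc, haa, one_mul]⟩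
  have hdT : d ∈ T := (hTmem d).2 ⟨hd, by rw [hxi, hx, hdi, mul_assoc, mul_assoc, hdd, mul_one]⟩
  have hTN : ∀ u ∈ T, u ∈ N := fun u hu => (hNiff u).2 (Or.inr ((hTmem u).1 hu).2)
  have hstab : ∀ n ∈ N, ∀ u ∈ T, n * u * n⁻¹ ∈ T := by
    intro n hn u hu
    obtain ⟨huD, hux⟩ := (hTmem u).1 hu
    refine (hTmem _).2 ⟨hT.conj n u huD, ?_⟩
    have h1 := congrArg (fun z => n * z * n⁻¹) hux
    have e : n * (u * x * u⁻¹) * n⁻¹ = (n * u * n⁻¹) * (n * x * n⁻¹) * (n * u * n⁻¹)⁻¹ := by group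
    rw [e, show n * x⁻¹ * n⁻¹ = (n * x * n⁻¹)⁻¹ by group] at h1
    rcases (hNiff n).1 hn with h | h <;> rw [h] at h1
    · exact h1
    · rw [inv_inv, ← inv_inj] at h1
      rw [← h1]
      group
  have hcl : ∀ u ∈ T, ∀ v ∈ T, cj u v ∈ T := fun u hu v hv => by
    rw [cj_conj hT ((hTmem u).1 hu).1]; exact hstab u (hTN u hu) v hv
  have honly : ∀ u ∈ T, Commute a u → u = a := by
    intro u hu hau
    obtain ⟨huD, hux⟩ := (hTmem u).1 hu
    rw [hx, mul_inv_rev, hdi, hai] at hux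
    have h1 : a * cj u d = d * a := by
      rw [← hux, cj_conj hT huD,
        show u * (a * d) * u⁻¹ = (u * a * u⁻¹) * (u * d * u⁻¹) by group, ← hau.eq, mul_inv_cancel_right]
    have h2 : cj u d = cj a d := by
      calc cj u d = a * (a * cj u d) := by rw [← mul_assoc, haa, one_mul]
        _ = cj a d := by rw [h1, cj_def, mul_assoc]
    by_cases hud : Commute u d
    · exfalso
      rw [cj_of_commute hT huD hud] at h2
      exact hnc ((cj_eq_self hT ha).1 h2.symm)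
    · rw [braid hT huD hd hud, braid hT ha hd hnc] at h2
      exact (cj_inj hT hd).1 h2
  have htrT : ∀ u ∈ T, ∃ n ∈ N, n * a * n⁻¹ = u := by
    intro u hu
    by_cases hau : Commute a u
    · exact ⟨1, one_mem _, by rw [honly u hu hau]; group⟩
    · refine ⟨cj a u, hTN _ (hcl a haT u hu), ?_⟩
      rw [← cj_conj hT (cj_mem hT ha ((hTmem u).1 hu).1)]
      exact cj_third hT ha ((hTmem u).1 hu).1 hau
  have hncT : ∀ u ∈ T, ∀ v ∈ T, Commute u v → u = v := by
    intro u hu v hv huv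
    obtain ⟨n, hn, rfl⟩ := htrT u hu
    have h : n⁻¹ * v * n = a := honly _ (by simpa using hstab n⁻¹ (inv_mem hn) v hv) ((Commute.conj_iff n).1 (by
      rw [show n * (n⁻¹ * v * n) * n⁻¹ = v by group]
      exact huv))
    rw [← h]
    group
  have hKN : K ≤ N := fun k hk => by
    rw [hK, mem_centralizer_pair] at hk
    exact (hNiff k).2 (Or.inl (by rw [hx, (hk.1.mul_right hk.2).eq, mul_inv_cancel_right]))
  obtain ⟨P, hP⟩ : ∃ P, P = Subgroup.closure {z : G | ∃ u ∈ T, ∃ v ∈ T, u * v = z} := ⟨_, rfl⟩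
  have haP : ∀ u ∈ T, a * u ∈ P := fun u hu => hP ▸ Subgroup.subset_closure ⟨a, haT, u, hu, rfl⟩
  have hP3 : IsPGroup 3 P := by
    obtain ⟨P₀, hP₀, hb, -⟩ := exists_three_of_subset hT (fun u hu => ((hTmem u).1 hu).1) hcl hncT haT
    refine hP₀.to_le ?_
    rw [hP, Subgroup.closure_le]
    rintro _ ⟨u, hu, v, hv, rfl⟩
    have h := mul_mem (inv_mem (hb u hu)) (hb v hv)
    rw [mul_inv_rev, hai, inv_eq hT ((hTmem u).1 hu).1, mul_assoc, ← mul_assoc a a, haa, one_mul] at h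
    exact h
  have hKP : K ≤ Subgroup.normalizer (P : Set G) := by
    intro k hk
    refine FixSet.mem_normalizer_of_map (Subgroup.eq_of_le_of_card_ge ?_
      (by rw [Subgroup.card_map_of_injective (MulAut.conj k).injective]))
    rw [hP, MonoidHom.map_closure, Subgroup.closure_le]
    rintro _ ⟨_, ⟨u, hu, v, hv, rfl⟩, rfl⟩
    exact Subgroup.subset_closure ⟨k * u * k⁻¹, hstab k (hKN hk) u hu, k * v * k⁻¹, hstab k (hKN hk) v hv,
      by simp [mul_assoc]⟩
  obtain ⟨j, hj⟩ := hP3.exists_card_eq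
  have hPK : P ⊓ K = ⊥ := by
    have hn : ((P ⊓ K).subgroupOf K).Normal := ⟨fun z hz k => by
      rw [Subgroup.mem_subgroupOf] at hz ⊢
      exact ⟨(Subgroup.mem_normalizer_iff.1 (hKP k.2) _).1 hz.1, (k * z * k⁻¹).2⟩⟩
    rcases hn.eq_bot_or_eq_top with h | h
    · rw [Subgroup.subgroupOf_eq_bot, disjoint_iff, inf_assoc, inf_idem] at h
      exact h
    · exfalso
      rw [Subgroup.subgroupOf_eq_top] at h
      have h13 : 13 ∣ 3 ^ j := hj ▸ (dvd_trans (by rw [hKc]; norm_num)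
        (Subgroup.card_dvd_of_le (h.trans inf_le_left)))
      have := Nat.Prime.dvd_of_dvd_pow (by norm_num : Nat.Prime 13) h13
      norm_num at this
  have hj4 : j ≤ 4 := by
    have hprod : Nat.card ↥(P ⊔ K) = Nat.card P * Nat.card K := by
      rw [← Nat.card_prod]
      refine (Nat.card_eq_of_bijective (fun z : ↥P × ↥K => (⟨z.1 * z.2, Subgroup.mul_mem_sup z.1.2 z.2.2⟩ : ↥(P ⊔ K)))
        ⟨fun z w e => ?_, fun g => ?_⟩).symm
      · exact Subgroup.mul_injective_of_disjoint (disjoint_iff.2 hPK) (congrArg Subtype.val e)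
      · have hg : (g : G) ∈ (P : Set G) * (K : Set G) := by
          rw [← Subgroup.coe_mul_of_right_le_normalizer_left P K hKP]; exact g.2
        obtain ⟨p, hp, k, hk, e⟩ := hg
        exact ⟨(⟨p, hp⟩, ⟨k, hk⟩), Subtype.ext e⟩
    have h := Subgroup.card_subgroup_dvd_card (P ⊔ K)
    rw [hprod, hKc, hGc, hj] at h
    by_contra hlt
    have h5 : 3 ^ 5 * 4585351680 ∣ 2 ^ 18 * 3 ^ 13 * 5 ^ 2 * 7 * 11 * 13 * 17 * 23 :=
      dvd_trans (mul_dvd_mul_right (pow_dvd_pow 3 (by omega)) _) h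
    norm_num at h5
  have hP81 : Nat.card P ≤ 81 := by
    rw [hj]; exact (Nat.pow_le_pow_right (by norm_num) hj4).trans (by norm_num)
  have hT81 : T.ncard ≤ 81 := by
    refine le_trans ?_ hP81
    rw [← Nat.card_coe_set_eq]
    exact Nat.card_le_card_of_injective (fun u => (⟨a * u, haP u u.2⟩ : ↥P))
      fun u v e => Subtype.ext (mul_left_cancel (congrArg Subtype.val e))
  -- few members generate the three-group
  have step : ∀ Q : Subgroup G, Q ≤ P → ∃ u ∈ T,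
      3 * Nat.card Q ≤ Nat.card ↥(Q ⊔ Subgroup.zpowers (a * u)) ∨
        P ≤ Q ⊔ Subgroup.zpowers (a * u) := by
    intro Q hQ
    by_cases h : ∀ u ∈ T, a * u ∈ Q
    · refine ⟨a, haT, Or.inr (le_sup_of_le_left ?_)⟩
      rw [hP, Subgroup.closure_le]
      rintro _ ⟨u, hu, v, hv, rfl⟩
      have h' := mul_mem (inv_mem (h u hu)) (h v hv)
      rw [mul_inv_rev, hai, inv_eq hT ((hTmem u).1 hu).1, mul_assoc, ← mul_assoc a a, haa, one_mul] at h'
      exact h'
    · push Not at h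
      obtain ⟨u, hu, huQ⟩ := h
      refine ⟨u, hu, Or.inl ?_⟩
      have hle : Q ⊔ Subgroup.zpowers (a * u) ≤ P := sup_le hQ (Subgroup.zpowers_le.2 (haP u hu))
      have : Fact (Nat.Prime 3) := ⟨Nat.prime_three⟩
      obtain ⟨i, hi⟩ := (hP3.to_le hQ).exists_card_eq
      obtain ⟨i', hi'⟩ := (hP3.to_le hle).exists_card_eq
      have hlt : Nat.card Q < Nat.card ↥(Q ⊔ Subgroup.zpowers (a * u)) := by
        refine lt_of_le_of_ne (Subgroup.card_le_of_le le_sup_left) fun e => huQ ?_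
        rw [Subgroup.eq_of_le_of_card_ge (le_sup_left : Q ≤ _) e.ge]
        exact Subgroup.mem_sup_right (Subgroup.mem_zpowers _)
      rw [hi, hi'] at hlt ⊢
      have hii := (Nat.pow_lt_pow_iff_right (by norm_num : 1 < 3)).1 hlt
      rw [mul_comm, ← pow_succ]
      exact Nat.pow_le_pow_right (by norm_num) hii
  obtain ⟨Q0, hQ0⟩ : ∃ Q, Q = Subgroup.zpowers (a * d) := ⟨_, rfl⟩
  have hQ0c : Nat.card Q0 = 3 := by rw [hQ0, Nat.card_zpowers, order_three hT ha hd hnc]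
  have hQ0P : Q0 ≤ P := hQ0 ▸ Subgroup.zpowers_le.2 (haP d hdT)
  obtain ⟨u1, hu1, s1⟩ := step Q0 hQ0P
  obtain ⟨Q1, hQ1⟩ : ∃ Q, Q = Q0 ⊔ Subgroup.zpowers (a * u1) := ⟨_, rfl⟩
  have hQ1P : Q1 ≤ P := hQ1 ▸ sup_le hQ0P (Subgroup.zpowers_le.2 (haP u1 hu1))
  obtain ⟨u2, hu2, s2⟩ := step Q1 hQ1P
  obtain ⟨Q2, hQ2⟩ : ∃ Q, Q = Q1 ⊔ Subgroup.zpowers (a * u2) := ⟨_, rfl⟩
  have hQ2P : Q2 ≤ P := hQ2 ▸ sup_le hQ1P (Subgroup.zpowers_le.2 (haP u2 hu2))
  obtain ⟨u3, hu3, s3⟩ := step Q2 hQ2P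
  have hgen : P ≤ Q2 ⊔ Subgroup.zpowers (a * u3) := by
    rcases s3 with s3 | s3
    swap; · exact s3
    rcases s2 with s2 | s2
    swap; · exact (s2.trans (le_of_eq hQ2.symm)).trans le_sup_left
    rcases s1 with s1 | s1
    swap; · exact (((s1.trans (le_of_eq hQ1.symm)).trans le_sup_left).trans (le_of_eq hQ2.symm)).trans le_sup_left
    refine (Subgroup.eq_of_le_of_card_ge (sup_le hQ2P (Subgroup.zpowers_le.2 (haP u3 hu3))) ?_).ge
    rw [← hQ1] at s1
    rw [← hQ2] at s2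
    omega
  -- a non-trivial element fixing the generators
  obtain ⟨f, hf⟩ : ∃ f : ↥K → ↥T × ↥T × ↥T, ∀ k, f k = (⟨(k : G) * u1 * (k : G)⁻¹, hstab k (hKN k.2) u1 hu1⟩,
      ⟨(k : G) * u2 * (k : G)⁻¹, hstab k (hKN k.2) u2 hu2⟩, ⟨(k : G) * u3 * (k : G)⁻¹, hstab k (hKN k.2) u3 hu3⟩) :=
    ⟨_, fun _ => rfl⟩
  obtain ⟨k1, k2, hk12, hke⟩ : ∃ k1 k2, k1 ≠ k2 ∧ f k1 = f k2 := by
    by_contra hno
    push Not at hno
    have h := Nat.card_le_card_of_injective f fun u v e => by_contra fun hne => hno u v hne e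
    rw [hKc, Nat.card_prod, Nat.card_prod, Nat.card_coe_set_eq] at h
    have h1 := Nat.mul_le_mul hT81 (Nat.mul_le_mul hT81 hT81)
    omega
  obtain ⟨M, hM⟩ : ∃ M : Subgroup ↥K, ∀ k, k ∈ M ↔ ∀ u ∈ T, Commute (k : G) u :=
    ⟨{ carrier := {k | ∀ u ∈ T, Commute (k : G) u}
       one_mem' := fun u _ => Commute.one_left u
       mul_mem' := fun {p q} hp hq u hu => (hp u hu).mul_left (hq u hu)
       inv_mem' := fun {p} hp u hu => (hp u hu).inv_left }, fun _ => Iff.rfl⟩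
  have hMn : M.Normal := ⟨fun m hm k => (hM _).2 fun u hu => by
    have h := (hM m).1 hm ((k : G)⁻¹ * u * k) (by simpa using hstab (k : G)⁻¹ (inv_mem (hKN k.2)) u hu)
    have h' := (Commute.conj_iff (k : G)).2 h
    rwa [show (k : G) * ((k : G)⁻¹ * u * k) * (k : G)⁻¹ = u by group] at h'⟩
  have hk : k1⁻¹ * k2 ∈ M := by
    rw [hf, hf] at hke
    simp only [Prod.mk.injEq, Subtype.ext_iff] at hke
    obtain ⟨e1, e2, e3⟩ := hke
    have hfix : ∀ w, (k1 : G) * w * (k1 : G)⁻¹ = k2 * w * (k2 : G)⁻¹ → Commute ((k1⁻¹ * k2 : ↥K) : G) w := by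
      intro w e
      refine mul_inv_eq_iff_eq_mul.1 ?_
      rw [Subgroup.coe_mul, Subgroup.coe_inv]
      calc (k1 : G)⁻¹ * k2 * w * ((k1 : G)⁻¹ * k2)⁻¹ = (k1 : G)⁻¹ * (k2 * w * (k2 : G)⁻¹) * k1 := by group
        _ = w := by rw [← e]; group
    obtain ⟨hka, hkd⟩ : Commute ((k1⁻¹ * k2 : ↥K) : G) a ∧ Commute ((k1⁻¹ * k2 : ↥K) : G) d :=
      mem_centralizer_pair.1 ((SetLike.ext_iff.1 hK _).1 (k1⁻¹ * k2).2)
    refine (hM _).2 fun u hu => ?_
    have hall : Q2 ⊔ Subgroup.zpowers (a * u3) ≤ Subgroup.centralizer ({((k1⁻¹ * k2 : ↥K) : G)} : Set G) := by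
      rw [hQ2, hQ1, hQ0]
      simp only [sup_le_iff, Subgroup.zpowers_le, Subgroup.mem_centralizer_singleton_iff]
      exact ⟨⟨⟨(hka.mul_right hkd).symm.eq, (hka.mul_right (hfix u1 e1)).symm.eq⟩,
        (hka.mul_right (hfix u2 e2)).symm.eq⟩, (hka.mul_right (hfix u3 e3)).symm.eq⟩
    have h : Commute ((k1⁻¹ * k2 : ↥K) : G) (a * u) :=
      (Subgroup.mem_centralizer_singleton_iff.1 (hall (hgen (haP u hu)))).symm
    have h' := hka.mul_right h
    rwa [← mul_assoc, haa, one_mul] at h'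
  have hMtop : M = ⊤ := hMn.eq_bot_or_eq_top.resolve_left fun h => hk12 (by
    rw [h, Subgroup.mem_bot, inv_mul_eq_one] at hk; exact hk)
  have hTeq : T = {a, d, cj a d} := by
    refine Set.Subset.antisymm (fun u hu => ?_) ?_
    · by_cases hua : u = a
      · exact Or.inl hua
      refine Or.inr (K23.trace a ha d hd hnc u ((hTmem u).1 hu).1 (fun h => hua (honly u hu h)) fun s hs => ?_)
      exact ((hM ⟨s, hcl0 ▸ Subgroup.subset_closure hs⟩).1 (hMtop ▸ Subgroup.mem_top _) u hu).symm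
    · rintro u (rfl | rfl | rfl)
      exacts [haT, hdT, hcl a haT d hdT]
  refine ⟨hTeq, ?_⟩
  have h3 : Nat.card ↥T = 3 := by
    rw [Nat.card_coe_set_eq, hTeq, Set.ncard_eq_three]
    exact ⟨a, d, cj a d, fun h => hnc (h ▸ Commute.refl a), fun h => hnc (by
      rw [← (cj_inj hT ha).1 ((cj_self hT ha).trans h)]),
      fun h => hnc ((cj_eq_self hT ha).1 h.symm), rfl⟩
  rw [card_conj_orbit (K := N) (X := T) haT hstab htrT, h3]
  have hda : d ≠ cj a d := fun h => hnc ((cj_eq_self hT ha).1 h.symm)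
  rw [card_conj_orbit (K := N ⊓ Subgroup.centralizer ({a} : Set G)) (X := ({d, cj a d} : Set G)) (x := d)
    (Set.mem_insert _ _) (fun n hn y hy => ?_) (fun y hy => ?_), Nat.card_coe_set_eq, Set.ncard_pair hda,
    inf_assoc, ← centralizer_pair_eq, ← hK, inf_eq_right.2 hKN, hKc]
  · have hna : n * a * n⁻¹ = a := by
      rw [Subgroup.mem_centralizer_singleton_iff.1 hn.2, mul_inv_cancel_right]
    have hxd : d = a * x := by rw [hx, ← mul_assoc, haa, one_mul]
    have hnd : n * d * n⁻¹ = d ∨ n * d * n⁻¹ = cj a d := by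
      have e : n * d * n⁻¹ = (n * a * n⁻¹) * (n * x * n⁻¹) := by rw [hxd]; group
      rcases (hNiff n).1 hn.1 with h | h <;> rw [h, hna] at e
      · exact Or.inl (e.trans hxd.symm)
      · exact Or.inr (e.trans (by rw [hxi, cj_def, mul_assoc]))
    rcases hy with rfl | rfl
    · exact hnd
    · rcases hnd with h | h
      · refine Or.inr ?_
        show n * cj a d * n⁻¹ = cj a d
        rw [cj_def, show n * (a * d * a) * n⁻¹ = (n * a * n⁻¹) * (n * d * n⁻¹) * (n * a * n⁻¹) by group, hna, h]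
      · refine Or.inl ?_
        rw [cj_def, show n * (a * d * a) * n⁻¹ = (n * a * n⁻¹) * (n * d * n⁻¹) * (n * a * n⁻¹) by group, hna, h]
        exact cj_cj hT ha d
  · rcases hy with rfl | rfl
    · exact ⟨1, one_mem _, by group⟩
    · exact ⟨a, ⟨hTN a haT, Subgroup.mem_centralizer_singleton_iff.2 rfl⟩, (cj_conj hT ha d).symm⟩

end Cfsg.Lib.Fischer.Relations.ThreeA
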