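import Cfsg.Agent.Lib.Fischer.Relations.Twenty.ReflOrder
import Cfsg.Agent.Lib.CosetEnum.O73Geom
import Mathlib.GroupTheory.IndexNormal

/-!
# The projective reflection group in dimension seven over three elements is `PΩ(7, 3)`
-/

set_option autoImplicit false
set_option linter.unusedSectionVars false

namespace Cfsg.Lib.Fischer.Relations.ThreeA

open Module Matrix Cfsg Cfsg.Lib.Linear.Orth Cfsg.Lib.H3.SylTwo

/-- All isometry groups in dimension seven are alike. -/
theorem nonempty_iso_std (Q : QuadraticForm (ZMod 3) (Fin 7 → ZMod 3))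
    (hQ : (QuadraticMap.polarBilin Q).Nondegenerate) :
    Nonempty (↥(isometryGroup (ZMod 3) (⇑Q)) ≃* ↥(isometryGroup (ZMod 3) (Cfsg.quadFormOdd 3 (ZMod 3)))) := by
  have : Fact (Nat.Prime 3) := ⟨Nat.prime_three⟩
  obtain ⟨w, f, hw, hf⟩ := ReflSeven.exists_diagonal Q hQ
  have C := space_of_quadraticForm Q hQ
  obtain ⟨s, hs0, hs⟩ : ∃ s : ZMod 3, s ≠ 0 ∧ (∏ i, s * w i) = 2 := by
    have hp : ∏ i, w i ≠ 0 := Finset.prod_ne_zero_iff.2 fun i _ => hw i
    refine ⟨2 * ∏ i, w i, mul_ne_zero ReflSeven.two_ne hp, ?_⟩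
    rw [Finset.prod_mul_distrib, Finset.prod_const, Finset.card_univ, Fintype.card_fin]
    exact ReflSeven.z3_scale _ hp
  obtain ⟨d, hd⟩ : ∃ d : Unit ⊕ (Fin 3 ⊕ Fin 3) → ZMod 3,
      d = Sum.elim (fun _ => 1) (Sum.elim (fun _ => 1) (fun _ => 2)) := ⟨_, rfl⟩
  have hd0 : ∀ i, d i ≠ 0 := by subst hd; exact ReflSeven.z3_d
  have hw' : ∀ i, s * w i ≠ 0 := fun i => mul_ne_zero hs0 (hw i)
  have h1 : FormMap (⇑Q) (diagQ w) := ⟨f.toLinearMap, hf⟩
  obtain ⟨e₁⟩ := h1.nonempty_mulEquiv C (by simp)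
  have hscale : isometryGroup (ZMod 3) (diagQ w) = isometryGroup (ZMod 3) (diagQ fun i => s * w i) := by
    ext g
    have hmul : ∀ v, diagQ (fun i => s * w i) v = s * diagQ w v := fun v => by
      rw [diagQ, diagQ, Finset.mul_sum]
      exact Finset.sum_congr rfl fun i _ => by ring
    simp only [mem_iso, hmul, mul_right_inj' hs0]
  have h2 : FormMap (diagQ fun i => s * w i) (diagQ d) := diag_map ReflSeven.two_ne _ d hw' hd0 (by simp) (by
    rw [hs, hd]; exact ReflSeven.z3_dprod)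
  have h3 : FormMap (diagQ d) (Cfsg.quadFormOdd 3 (ZMod 3)) := by
    refine ⟨LinearMap.pi (Sum.elim (fun i => LinearMap.proj (.inl i)) (Sum.elim
      (fun i => LinearMap.proj (.inr (.inl i)) + LinearMap.proj (.inr (.inr i)))
      (fun i => LinearMap.proj (.inr (.inl i)) - LinearMap.proj (.inr (.inr i))))), fun v => ?_⟩
    subst hd
    simp [diagQ, Cfsg.quadFormOdd, Fintype.sum_sum_type, Fin.sum_univ_three]
    linear_combination (-(v (.inr (.inr 0)) ^ 2) - v (.inr (.inr 1)) ^ 2 - v (.inr (.inr 2)) ^ 2) * ReflSeven.z3_three_zero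
  obtain ⟨e₂⟩ := (h2.trans h3).nonempty_mulEquiv (diag_space ReflSeven.two_ne hw') (by simp)
  exact ⟨e₁.trans ((MulEquiv.subgroupCongr hscale).trans e₂)⟩

theorem z3_seventh : ∀ t : ZMod 3, t ≠ 0 → t ^ 7 = 1 → t = 1 := by decide

/-- With a quotient of the right order the projective reflection group is `PΩ(7, 3)`. -/
theorem quot_iso (Q : QuadraticForm (ZMod 3) (Fin 7 → ZMod 3))
    (hQ : (QuadraticMap.polarBilin Q).Nondegenerate) {c : ZMod 3} (hc : c ≠ 0)
    (hcard : Nat.card (↥(reflectionSubgroup (⇑Q) c) ⧸ Subgroup.center ↥(reflectionSubgroup (⇑Q) c)) = 4585351680) :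
    Nonempty (↥(reflectionSubgroup (⇑Q) c) ⧸ Subgroup.center ↥(reflectionSubgroup (⇑Q) c) ≃*
      Cfsg.POmega (ZMod 3) (Cfsg.quadFormOdd 3 (ZMod 3))) := by
  classical
  have : Fact (Nat.Prime 3) := ⟨Nat.prime_three⟩
  have C := space_of_quadraticForm Q hQ
  obtain ⟨e⟩ := nonempty_iso_std Q hQ
  obtain ⟨hom, hpom⟩ := Cfsg.Lib.CosetEnum.O73.card_omega
  have hN := reflectionSubgroup_normal C hc
  have hidx := reflectionSubgroup_index C (by simp) hc
  have hle : commutator ↥(isometryGroup (ZMod 3) (⇑Q)) ≤ reflectionSubgroup (⇑Q) c := by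
    have : Fact (Nat.Prime 2) := ⟨Nat.prime_two⟩
    have : IsCyclic (↥(isometryGroup (ZMod 3) (⇑Q)) ⧸ reflectionSubgroup (⇑Q) c) :=
      isCyclic_of_prime_card (p := 2) hidx
    let _ := IsCyclic.commGroup (α := ↥(isometryGroup (ZMod 3) (⇑Q)) ⧸ reflectionSubgroup (⇑Q) c)
    have h := Abelianization.commutator_subset_ker (QuotientGroup.mk' (reflectionSubgroup (⇑Q) c))
    rwa [QuotientGroup.ker_mk'] at h
  obtain ⟨ψ, hψ⟩ : ∃ ψ : ↥(commutator ↥(isometryGroup (ZMod 3) (⇑Q))) →*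
      ↥(reflectionSubgroup (⇑Q) c) ⧸ Subgroup.center ↥(reflectionSubgroup (⇑Q) c),
      ψ = (QuotientGroup.mk' _).comp (Subgroup.inclusion hle) := ⟨_, rfl⟩
  have hinj : Function.Injective ψ := by
    rw [injective_iff_map_eq_one, hψ]
    rintro ⟨z, hz⟩ h
    have hzc : Subgroup.inclusion hle ⟨z, hz⟩ ∈ Subgroup.center ↥(reflectionSubgroup (⇑Q) c) :=
      (QuotientGroup.eq_one_iff _).1 h
    obtain ⟨ε, hε, hact⟩ := ReflSeven.center_pm Q hQ hc hzc
    have hdet : (Matrix.GeneralLinearGroup.det.comp (isometryGroup (ZMod 3) (⇑Q)).subtype) z = 1 :=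
      Abelianization.commutator_subset_ker _ hz
    have hzv : ((z : GL (Fin 7) (ZMod 3)) : Matrix (Fin 7) (Fin 7) (ZMod 3)) = ε • 1 :=
      Matrix.toLin'.injective (LinearMap.ext fun x => by
        rw [Matrix.toLin'_apply, Matrix.toLin'_apply, Matrix.smul_mulVec, Matrix.one_mulVec]
        exact hact x)
    have hd := congrArg Units.val hdet
    simp only [MonoidHom.comp_apply, Matrix.GeneralLinearGroup.val_det_apply, Subgroup.coe_subtype, hzv,
      Matrix.det_smul, Matrix.det_one, mul_one, Units.val_one, Fintype.card_fin] at hd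
    have hε1 : ε = 1 := z3_seventh ε hε hd
    refine Subtype.ext (Subtype.ext (gl_ext fun x => ?_))
    refine (hact x).trans ?_
    rw [hε1, one_smul]
    exact (Matrix.one_mulVec x).symm
  obtain ⟨eΩ⟩ : Nonempty (↥(commutator ↥(isometryGroup (ZMod 3) (⇑Q))) ≃*
      Cfsg.Omega (ZMod 3) (Cfsg.quadFormOdd 3 (ZMod 3))) := ⟨(e.subgroupMap _).trans (MulEquiv.subgroupCongr (by
    show (commutator _).map e.toMonoidHom = commutator _
    rw [commutator_def, Subgroup.map_commutator, ← MonoidHom.range_eq_map,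
      MonoidHom.range_eq_top.2 e.surjective]
    rfl))⟩
  have hc1 : Nat.card ↥(commutator ↥(isometryGroup (ZMod 3) (⇑Q))) = 4585351680 := by
    rw [Nat.card_congr eΩ.toEquiv, hom]
  refine ⟨(MulEquiv.ofBijective ψ (hinj.bijective_of_nat_card_le (by rw [hc1, hcard]))).symm.trans (eΩ.trans
    (MulEquiv.ofBijective (QuotientGroup.mk' _)
      ((QuotientGroup.mk'_surjective _).bijective_of_nat_card_le (by
        show Nat.card ↥(Cfsg.Omega (ZMod 3) _) ≤ Nat.card (Cfsg.POmega (ZMod 3) _)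
        rw [hpom, hom]))))⟩

end Cfsg.Lib.Fischer.Relations.ThreeA
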