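import Cfsg.Agent.Lib.Fischer.Relations.ThreeA.Group

/-!
# The normalizer splits over the symmetric group of degree three
-/

set_option autoImplicit false
set_option linter.unusedSectionVars false

namespace Cfsg.Lib.Fischer.Relations.ThreeA

open Cfsg Cfsg.Lib.Fischer Equiv

variable {G : Type*} [Group G] [Finite G] {D : Set G}

theorem card_closure_pair_le (hT : Trans D) {d a : G} (hd : d ∈ D) (ha : a ∈ D) (hn : ¬ Commute d a) :
    Nat.card ↥(Subgroup.closure ({d, a} : Set G)) ≤ 6 := by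
  have hdd := mul_self hT hd
  have haa := mul_self hT ha
  have hbr : d * a * d = a * d * a := braid hT hd ha hn
  have hK : Nat.card (Subgroup.zpowers a) ≤ 2 := by rw [Nat.card_zpowers, hT.set.1 a ha]
  have h3 := LocalSym.card_closure_le ![1, d, a * d] (s := {d, a})
    (by rintro y (rfl | rfl); exacts [hdd, haa]) (Subgroup.zpowers a) ⟨0, by simp⟩ (by
    rintro y (rfl | rfl) i
    · fin_cases i
      · exact ⟨1, by simp⟩
      · exact ⟨0, by simp [hdd]⟩
      · refine ⟨2, ?_⟩
        have e : y * (a * y) = a * y * a := by rw [← mul_assoc, hbr]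
        simp only [Fin.reduceFinMk, Matrix.cons_val]
        rw [e, inv_mul_cancel_left]
        exact Subgroup.mem_zpowers a
    · fin_cases i
      · exact ⟨0, by simp⟩
      · exact ⟨2, by simp⟩
      · exact ⟨1, by simp [← mul_assoc, haa, hdd, inv_eq_of_mul_eq_one_right hdd]⟩)
  exact h3.2.trans (by omega)

theorem three_of (hT : Trans D) {a d : G} (ha : a ∈ D) (hd : d ∈ D) (hnc : ¬ Commute a d) :
    ¬ Commute a (cj a d) ∧ ¬ Commute d (cj a d) ∧
      a ≠ d ∧ a ≠ cj a d ∧ d ≠ cj a d := by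
  have hcd : cj d a = cj a d := (braid hT hd ha fun h => hnc h.symm)
  have h1 : ¬ Commute a (cj a d) := fun h => hnc ((cj_eq_self hT ha).1 (by
    have h' := cj_of_commute hT ha h
    rw [cj_cj hT ha] at h'
    exact h'.symm))
  have h2 : ¬ Commute d (cj a d) := fun h => hnc (Commute.symm ((cj_eq_self hT hd).1 (by
    have h' := cj_of_commute hT hd h
    rw [← hcd, cj_cj hT hd] at h'
    exact h'.symm)))
  exact ⟨h1, h2, fun h => hnc (h ▸ Commute.refl a), fun h => h1 (h ▸ Commute.refl a),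
    fun h => h2 (h ▸ Commute.refl d)⟩

/-- The normalizer of the product is the group of the two times their common centralizer. -/
theorem normalizer_split_of (hT : Trans D) {a d : G} (ha : a ∈ D) (hd : d ∈ D) (hnc : ¬ Commute a d)
    (hTeq : inverters D (a * d) = {a, d, cj a d}) :
    Subgroup.closure ({a, d} : Set G) ⊓ Subgroup.centralizer ({a, d} : Set G) = ⊥ ∧
      Subgroup.closure ({a, d} : Set G) ⊔ Subgroup.centralizer ({a, d} : Set G) =
        Subgroup.normalizer (Subgroup.zpowers (a * d) : Set G) ∧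
      Nonempty (↥(Subgroup.closure ({a, d} : Set G)) ≃* Perm (Fin 3)) := by
  classical
  obtain ⟨h1, h2, hne1, hne2, hne3⟩ := three_of hT ha hd hnc
  obtain ⟨N, hN⟩ : ∃ N, N = Subgroup.normalizer (Subgroup.zpowers (a * d) : Set G) := ⟨_, rfl⟩
  obtain ⟨T, hTdef⟩ : ∃ T, T = ({a, d, cj a d} : Set G) := ⟨_, rfl⟩
  obtain ⟨L, hL⟩ : ∃ L, L = Subgroup.closure ({a, d} : Set G) := ⟨_, rfl⟩
  obtain ⟨K, hK⟩ : ∃ K, K = Subgroup.centralizer ({a, d} : Set G) := ⟨_, rfl⟩
  rw [← hL, ← hK, ← hN]
  have hNiff : ∀ n, n ∈ N ↔ n * (a * d) * n⁻¹ = a * d ∨ n * (a * d) * n⁻¹ = (a * d)⁻¹ := fun n => by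
    rw [hN]; exact mem_normalizer_iff_pm hT ha hd hnc
  have hTmem : ∀ u, u ∈ T ↔ u ∈ D ∧ u * (a * d) * u⁻¹ = (a * d)⁻¹ := fun u => by
    rw [hTdef, ← hTeq]; rfl
  have hnc3 : ∀ u ∈ T, ∀ v ∈ T, Commute u v → u = v := by
    rw [hTdef]
    rintro u (rfl | rfl | rfl) v (rfl | rfl | rfl) h
    exacts [rfl, absurd h hnc, absurd h h1, absurd h.symm hnc, rfl, absurd h h2, absurd h.symm h1,
      absurd h.symm h2, rfl]
  have hT3 : T.ncard = 3 := by rw [hTdef, Set.ncard_eq_three]; exact ⟨_, _, _, hne1, hne2, hne3, rfl⟩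
  obtain ⟨π₀, hπ₀, hker₀⟩ := FixSet.exists_action N T fun n hn u hu => by
    obtain ⟨huD, hux⟩ := (hTmem u).1 hu
    refine (hTmem _).2 ⟨hT.conj n u huD, ?_⟩
    have e1 := congrArg (fun z => n * z * n⁻¹) hux
    have e : n * (u * (a * d) * u⁻¹) * n⁻¹ = (n * u * n⁻¹) * (n * (a * d) * n⁻¹) * (n * u * n⁻¹)⁻¹ := by group
    rw [e, show n * (a * d)⁻¹ * n⁻¹ = (n * (a * d) * n⁻¹)⁻¹ by group] at e1
    rcases (hNiff n).1 hn with h | h <;> rw [h] at e1
    · exact e1
    · rw [inv_inv, ← inv_inj] at e1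
      rw [← e1]
      group
  have hTN : ∀ u ∈ T, u ∈ N := fun u hu => (hNiff u).2 (Or.inr ((hTmem u).1 hu).2)
  have hLN : L ≤ N := by
    rw [hL, Subgroup.closure_le]
    rintro u (rfl | rfl)
    exacts [hTN _ (by simp [hTdef]), hTN _ (by simp [hTdef])]
  have hKN : K ≤ N := fun k hk => by
    rw [hK, mem_centralizer_pair] at hk
    exact (hNiff k).2 (Or.inl (by rw [(hk.1.mul_right hk.2).eq, mul_inv_cancel_right]))
  have hmem : ∀ u ∈ T, u ∈ L := by
    rw [hTdef, hL]
    rintro u (rfl | rfl | rfl)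
    · exact Subgroup.subset_closure (Set.mem_insert _ _)
    · exact Subgroup.subset_closure (Set.mem_insert_of_mem _ rfl)
    · rw [cj_def]
      exact mul_mem (mul_mem (Subgroup.subset_closure (Set.mem_insert _ _))
        (Subgroup.subset_closure (Set.mem_insert_of_mem _ rfl))) (Subgroup.subset_closure (Set.mem_insert _ _))
  obtain ⟨e⟩ : Nonempty (↥T ≃ Fin 3) := ⟨(Finite.equivFinOfCardEq (by rw [Nat.card_coe_set_eq, hT3]))⟩
  obtain ⟨π, hπ⟩ : ∃ π : ↥N →* Perm (Fin 3), π = e.permCongrHom.toMonoidHom.comp π₀ := ⟨_, rfl⟩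
  have hker : π.ker.map N.subtype = K := by
    rw [show π.ker = π₀.ker from SetLike.ext fun n => by
      simp only [hπ, MonoidHom.mem_ker, MonoidHom.comp_apply, MulEquiv.coe_toMonoidHom, MulEquiv.map_eq_one_iff],
      hker₀]
    refine le_antisymm (fun k hk => ?_) fun k hk => ⟨hKN hk, ?_⟩
    · rw [hK, mem_centralizer_pair]
      have h := Subgroup.mem_centralizer_iff.1 hk.2
      exact ⟨(h a (by simp [hTdef])).symm, (h d (by simp [hTdef])).symm⟩
    · rw [hK, mem_centralizer_pair] at hk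
      refine Subgroup.mem_centralizer_iff.2 fun u hu => ?_
      rw [hTdef] at hu
      rcases hu with rfl | rfl | rfl
      · exact hk.1.symm.eq
      · exact hk.2.symm.eq
      · exact (cj_def (G := G) a d ▸ ((hk.1.mul_right hk.2).mul_right hk.1)).symm.eq
  have hπv : ∀ n i, e.symm (π n i) = π₀ n (e.symm i) := fun n i => by simp [hπ, Equiv.permCongr_apply]
  have hsw : ∀ j k : Fin 3, j ≠ k → ∃ l : ↥L, π.comp (Subgroup.inclusion hLN) l = swap j k := by
    intro j k hjk
    obtain ⟨i, hij, hik⟩ := FixSet.three_others 0 j k hjk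
    refine ⟨⟨_, hmem _ (e.symm i).2⟩, FixSet.three_swap _ i j k ?_ hij.symm hik.symm hjk ?_⟩
    · apply e.symm.injective
      rw [MonoidHom.comp_apply, hπv]
      exact Subtype.ext (by rw [hπ₀]; simp)
    · intro h
      have h' := congrArg (fun z => (e.symm z : G)) h
      simp only [MonoidHom.comp_apply, hπv, hπ₀] at h'
      exact hij (e.symm.injective (Subtype.ext (hnc3 _ (e.symm i).2 _ (e.symm j).2 (mul_inv_eq_iff_eq_mul.1 h'))))
  have hsurj : Function.Surjective (π.comp (Subgroup.inclusion hLN)) := by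
    intro σ
    induction σ using Equiv.Perm.swap_induction_on with
    | one => exact ⟨1, map_one _⟩
    | swap_mul f j k hjk ih =>
      obtain ⟨u, hu⟩ := hsw j k hjk
      obtain ⟨v, hv⟩ := ih
      exact ⟨u * v, by rw [map_mul, hu, hv]⟩
  have h6 : Nat.card (Perm (Fin 3)) = 6 := by rw [Nat.card_perm, Nat.card_fin]; rfl
  have hbij : Function.Bijective (π.comp (Subgroup.inclusion hLN)) :=
    hsurj.bijective_of_nat_card_le (h6 ▸ hL ▸ card_closure_pair_le hT ha hd hnc)
  obtain ⟨hint, hsup, -⟩ := FixSet.split hLN π hbij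
  rw [hker] at hint hsup
  exact ⟨inf_comm L K ▸ hint, sup_comm L K ▸ hsup, ⟨MulEquiv.ofBijective _ hbij⟩⟩

theorem normalizer_split (hT : Trans D) (hprim : Cfsg.IsPrimitiveUnderConj D) (h23 : Cfsg.IsOfTypeM23 G D)
    {a d : G} (ha : a ∈ D) (hd : d ∈ D) (hnc : ¬ Commute a d) :
    Subgroup.closure ({a, d} : Set G) ⊓ Subgroup.centralizer ({a, d} : Set G) = ⊥ ∧
      Subgroup.closure ({a, d} : Set G) ⊔ Subgroup.centralizer ({a, d} : Set G) =
        Subgroup.normalizer (Subgroup.zpowers (a * d) : Set G) ∧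
      Nonempty (↥(Subgroup.closure ({a, d} : Set G)) ≃* Perm (Fin 3)) :=
  normalizer_split_of hT ha hd hnc (inverters_eq hT hprim h23 ha hd hnc).1

/-- The members centralizing the product are the common neighbours. -/
theorem centralizing_eq (hT : Trans D) {a d : G} (ha : a ∈ D) (hd : d ∈ D) (hnc : ¬ Commute a d)
    (hTeq : inverters D (a * d) = {a, d, cj a d}) :
    D ∩ (Subgroup.centralizer (Subgroup.zpowers (a * d) : Set G) : Set G) = common D a d := by
  have hxi : (a * d)⁻¹ = d * a := by rw [mul_inv_rev, inv_eq hT ha, inv_eq hT hd]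
  have hord := order_three hT ha hd hnc
  have hne : a * d ≠ (a * d)⁻¹ := by
    intro h
    have h2 : (a * d) ^ 2 = 1 := by rw [pow_two, ← eq_inv_iff_mul_eq_one, ← h]
    have := orderOf_dvd_of_pow_eq_one h2
    rw [hord] at this
    norm_num at this
  ext u
  constructor
  · rintro ⟨huD, hu⟩
    have hux : Commute (a * d) u := Subgroup.mem_centralizer_iff.1 hu _ (Subgroup.mem_zpowers _)
    have himg : ∀ v ∈ ({a, d, cj a d} : Set G), u * v * u⁻¹ ∈ ({a, d, cj a d} : Set G) := by
      rw [← hTeq]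
      rintro v ⟨hvD, hv⟩
      refine ⟨hT.conj u v hvD, ?_⟩
      have e1 := congrArg (fun z => u * z * u⁻¹) hv
      rw [show u * (v * (a * d) * v⁻¹) * u⁻¹ = (u * v * u⁻¹) * (u * (a * d) * u⁻¹) * (u * v * u⁻¹)⁻¹ by group,
        show u * (a * d)⁻¹ * u⁻¹ = (u * (a * d) * u⁻¹)⁻¹ by group, ← hux.eq, mul_inv_cancel_right] at e1
      exact e1
    have hprod : (u * a * u⁻¹) * (u * d * u⁻¹) = a * d := by
      rw [show (u * a * u⁻¹) * (u * d * u⁻¹) = u * (a * d) * u⁻¹ by group, ← hux.eq, mul_inv_cancel_right]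
    have huu := mul_self hT huD
    have hui := inv_eq hT huD
    rcases himg a (by simp) with h | h | h
    · have hau : Commute a u := (mul_inv_eq_iff_eq_mul.1 h).symm
      rw [h, mul_right_inj] at hprod
      have hdu : Commute d u := (mul_inv_eq_iff_eq_mul.1 hprod).symm
      exact ⟨⟨huD, fun e => hnc (e ▸ hdu.symm), hau⟩, hdu⟩
    · exfalso
      have hd' : u * d * u⁻¹ = a := by
        rw [← h, hui]
        simp only [← mul_assoc, huu, one_mul]
        rw [mul_assoc, huu, mul_one]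
      rw [h, hd'] at hprod
      exact hne (hprod.symm.trans hxi.symm)
    · exfalso
      -- the image of `a` is the third member, so that of `d` is `a`
      rw [h, cj_def] at hprod
      have hd' : u * d * u⁻¹ = a := by
        have e := congrArg (fun z => (a * d * a)⁻¹ * z) hprod
        simp only [inv_mul_cancel_left] at e
        rw [e]
        simp only [mul_inv_rev, inv_eq hT ha, inv_eq hT hd, mul_assoc]
        rw [← mul_assoc a a, mul_self hT ha, one_mul, mul_self hT hd, mul_one]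
      have h2 : u * a * u⁻¹ = d := by
        rw [← hd', hui]
        simp only [← mul_assoc, huu, one_mul]
        rw [mul_assoc, huu, mul_one]
      exact (three_of hT ha hd hnc).2.2.2.2 (h2.symm.trans h)
  · rintro ⟨⟨huD, -, hau⟩, hdu⟩
    refine ⟨huD, Subgroup.mem_centralizer_iff.2 ?_⟩
    rintro z ⟨n, rfl⟩
    exact ((hau.mul_left hdu).zpow_left n).eq

end Cfsg.Lib.Fischer.Relations.ThreeA
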