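import Cfsg.Agent.Lib.Fischer.Relations.ThreeA.SixStruct
import Cfsg.Agent.Lib.Fischer.Relations.ThreeA.Split
import Cfsg.Agent.Lib.Fischer.Relations.Centralizer.Order

/-!
# The common neighbours of two non-commuting members in type M(22)
-/

set_option autoImplicit false
set_option linter.unusedSectionVars false

namespace Cfsg.Lib.Fischer.Relations.ThreeA

open Cfsg Cfsg.Lib.Fischer

variable {G : Type*} [Group G] [Finite G] {D : Set G}

/-- The group of the common neighbours. -/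
theorem six_common_group (hT : Trans D) (hprim : Cfsg.IsPrimitiveUnderConj D) (h22 : Cfsg.IsOfTypeM22 G D)
    {a d : G} (ha : a ∈ D) (hd : d ∈ D) (hnc : ¬ Commute a d) :
    Subgroup.closure (common D a d) = Subgroup.centralizer ({a, d} : Set G) ∧
      ∃ c : ZMod 3, c ≠ 0 ∧
        Cfsg.IsProjReflectionGroupModThree ↥(Subgroup.centralizer ({a, d} : Set G)) 6 1 c := by
  classical
  obtain ⟨hDc, -, -⟩ := m22_order hT hprim h22
  obtain ⟨hZ, d₀, hd₀, c, hc, hdc, ⟨F, _, _, hF, ⟨e⟩⟩, c₃, hc₃, hL⟩ := h22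
  have hF' : Fintype.card F = 2 ^ 2 := hF
  obtain ⟨b, hb⟩ := perp_nonempty_of_psu (D := D) hF' e
  have hw : ∃ a ∈ D, ∃ b ∈ D, a ≠ b ∧ Commute a b := ⟨d₀, hd₀, b, hb.1, Ne.symm hb.2.1, hb.2.2⟩
  have hsep := sep_of_core hT hprim.2.1 (core_le_center_of_primitive hT hprim hw).1
  obtain ⟨U⟩ := exists_udata hT hsep hd₀ hF' e
  obtain ⟨C⟩ := exists_coord (hF := hF') (isFischer_of_primitive hT hprim hw hZ) hprim hZ hsep
    (fun x hx => by obtain ⟨g, rfl⟩ := hT.trans d₀ hd₀ x hx; exact ⟨U.conj hT g⟩) hd₀ e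
  have hH := C.card_centralizer e
  rw [C.centralizer_eq] at hH
  have hfar : Nat.card {x | x ∈ D ∧ ¬ Commute x d₀} = 2816 := by
    have hset : D = insert d₀ (perp D d₀ ∪ {x | x ∈ D ∧ ¬ Commute x d₀}) := by
      ext x
      simp only [Set.mem_insert_iff, Set.mem_union, Set.mem_ofPred_eq, mem_perp]
      constructor
      · intro hx
        by_cases h : x = d₀
        · exact Or.inl h
        by_cases h' : Commute x d₀
        exacts [Or.inr (Or.inl ⟨hx, h, h'.symm⟩), Or.inr (Or.inr ⟨hx, h'⟩)]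
      · rintro (rfl | h | h)
        exacts [hd₀, h.1, h.1]
    rw [hset, Set.ncard_insert_of_notMem, Set.ncard_union_eq, ← Nat.card_coe_set_eq, C.card_perp,
      ← Nat.card_coe_set_eq] at hDc
    · omega
    · exact Set.disjoint_left.2 fun x h h' => h'.2 h.2.2.symm
    · rintro (h | h)
      · exact h.2.1 rfl
      · exact h.2 (Commute.refl d₀)
  have hpair : Nat.card ↥(Subgroup.centralizer ({d₀, c} : Set G)) = 6531840 := by
    have h := card_conj_orbit (K := Subgroup.centralizer ({d₀} : Set G)) (X := {x | x ∈ D ∧ ¬ Commute x d₀})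
      (x := c) ⟨hc, fun h => hdc h.symm⟩ (fun k hk y hy => by
        have hkd : Commute k d₀ := Subgroup.mem_centralizer_singleton_iff.1 hk
        refine ⟨hT.conj k y hy.1, fun h => hy.2 ((Commute.conj_iff k).1 ?_)⟩
        rwa [show k * d₀ * k⁻¹ = d₀ by rw [hkd.eq, mul_inv_cancel_right]]) (fun y hy => by
        obtain ⟨g, hg, hge⟩ := orb_all C.fis hd₀ hc hy.1 hdc (fun h => hy.2 h.symm)
        exact ⟨g, Subgroup.mem_centralizer_singleton_iff.2 (commute_of_mem_closure C.fis hd₀ hg).eq, hge⟩)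
    rw [hH, hfar, ← centralizer_pair_eq] at h
    omega
  have hcom : common D d₀ c = {y : G | y ∈ D ∧ y ≠ d₀ ∧ Commute d₀ y} ∩ {y : G | y ∈ D ∧ y ≠ c ∧ Commute c y} := by
    ext y
    exact ⟨fun h => ⟨h.1, h.1.1, fun e => hdc (e ▸ h.1.2.2), h.2⟩, fun h => ⟨h.1, h.2.2.2⟩⟩
  obtain ⟨L, hLdef'⟩ : ∃ L, L = Subgroup.closure
      ({y : G | y ∈ D ∧ y ≠ d₀ ∧ Commute d₀ y} ∩ {y : G | y ∈ D ∧ y ≠ c ∧ Commute c y}) := ⟨_, rfl⟩
  have hLdef : L = Subgroup.closure (common D d₀ c) := by rw [hLdef', hcom]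
  have hLC : L ≤ Subgroup.centralizer ({d₀, c} : Set G) := by
    rw [hLdef, Subgroup.closure_le]
    exact fun y hy => mem_centralizer_pair.2 ⟨hy.1.2.2.symm, hy.2.symm⟩
  replace hL : Cfsg.IsProjReflectionGroupModThree (↥L ⧸ Subgroup.center ↥L) 6 1 c₃ := by subst hLdef'; exact hL
  have hdvd := ReflSix.order_dvd hc₃ hL
  have hmul := Subgroup.card_eq_card_quotient_mul_card_subgroup (Subgroup.center ↥L)
  have hLle : Nat.card L ≤ 6531840 := hpair ▸ Subgroup.card_le_of_le hLC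
  have hq : 6531840 ≤ Nat.card (↥L ⧸ Subgroup.center ↥L) := by
    have := Nat.le_of_dvd Nat.card_pos hdvd
    omega
  have hz : 0 < Nat.card (Subgroup.center ↥L) := Nat.card_pos
  have hz1 : Nat.card (Subgroup.center ↥L) = 1 := by
    by_contra h
    have h2 : 2 ≤ Nat.card (Subgroup.center ↥L) := by omega
    have := Nat.mul_le_mul hq h2
    omega
  rw [hz1, mul_one] at hmul
  have hLeq : L = Subgroup.centralizer ({d₀, c} : Set G) :=
    Subgroup.eq_of_le_of_card_ge hLC (by rw [hpair]; omega)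
  have hbot : Subgroup.center ↥L = ⊥ := Subgroup.card_eq_one.1 hz1
  obtain ⟨Q, hQ, hdet, ⟨eQ⟩⟩ := hL
  have eL : ↥L ≃* Cfsg.reflectionSubgroup (⇑Q) c₃ ⧸ Subgroup.center (Cfsg.reflectionSubgroup (⇑Q) c₃) :=
    (QuotientGroup.quotientBot.symm.trans (QuotientGroup.quotientMulEquivOfEq hbot.symm)).trans eQ
  -- transport
  obtain ⟨g₁, hg₁⟩ := hT.trans d₀ hd₀ a ha
  obtain ⟨g₂, hg₂, hg₂e⟩ := orb_all C.fis ha (hT.conj g₁ c hc) hd
    (fun h => hdc ((Commute.conj_iff g₁).1 (hg₁.symm ▸ h))) hnc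
  have hg₂a : Commute g₂ a := commute_of_mem_closure C.fis ha hg₂
  obtain ⟨g, hg⟩ : ∃ g, g = g₂ * g₁ := ⟨_, rfl⟩
  have ega : g * d₀ * g⁻¹ = a := by
    rw [hg, show g₂ * g₁ * d₀ * (g₂ * g₁)⁻¹ = g₂ * (g₁ * d₀ * g₁⁻¹) * g₂⁻¹ by group, hg₁, hg₂a.eq,
      mul_inv_cancel_right]
  have egd : g * c * g⁻¹ = d := by
    rw [hg, show g₂ * g₁ * c * (g₂ * g₁)⁻¹ = g₂ * (g₁ * c * g₁⁻¹) * g₂⁻¹ by group, hg₂e]
  have hmap : (Subgroup.centralizer ({d₀, c} : Set G)).map (MulAut.conj g).toMonoidHom =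
      Subgroup.centralizer ({a, d} : Set G) := by
    rw [centralizer_pair_eq, centralizer_pair_eq, Subgroup.map_inf _ _ _ (MulAut.conj g).injective,
      FixSet.centralizer_singleton_map, FixSet.centralizer_singleton_map, ega, egd]
  obtain ⟨ψ⟩ : Nonempty (↥L ≃* ↥(Subgroup.centralizer ({a, d} : Set G))) :=
    ⟨((MulAut.conj g).subgroupMap L).trans (MulEquiv.subgroupCongr (hLeq ▸ hmap))⟩
  refine ⟨?_, c₃, hc₃, Q, hQ, hdet, ⟨ψ.symm.trans eL⟩⟩
  rw [← hmap, ← hLeq, hLdef, MonoidHom.map_closure, common_conj hT, ega, egd]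

/-- The common neighbours form one class, so their group is transitive on their non-commuting pairs. -/
theorem common_pairs (hT : Trans D) {a d : G} (hK : Subgroup.closure (common D a d) = Subgroup.centralizer ({a, d} : Set G))
    {c : ZMod 3} (hc : c ≠ 0)
    (hrefl : Cfsg.IsProjReflectionGroupModThree ↥(Subgroup.centralizer ({a, d} : Set G)) 6 1 c) :
    (∃ u ∈ common D a d, ∃ v ∈ common D a d, ¬ Commute u v) ∧
      ∀ u ∈ common D a d, ∀ v ∈ common D a d, ∀ u' ∈ common D a d, ∀ v' ∈ common D a d,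
        ¬ Commute u v → ¬ Commute u' v' →
        ∃ k ∈ Subgroup.centralizer ({a, d} : Set G), k * u * k⁻¹ = u' ∧ k * v * k⁻¹ = v' := by
  classical
  obtain ⟨hnorm, hperf, hne⟩ := proj_refl_normal (by norm_num) hc hrefl
  obtain ⟨K, hKdef⟩ : ∃ K, K = Subgroup.centralizer ({a, d} : Set G) := ⟨_, rfl⟩
  rw [← hKdef] at hK hnorm hperf hne ⊢
  obtain ⟨E, hE⟩ : ∃ E : Set ↥K, E = {y : ↥K | (y : G) ∈ common D a d} := ⟨_, rfl⟩
  have hmemK : ∀ y ∈ common D a d, y ∈ K := fun y hy => hK ▸ Subgroup.subset_closure hy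
  have hgen : Subgroup.closure E = ⊤ := by
    refine Subgroup.map_injective K.subtype_injective ?_
    rw [MonoidHom.map_closure, ← MonoidHom.range_eq_map, Subgroup.range_subtype]
    refine (congrArg Subgroup.closure (show K.subtype '' E = common D a d from
      Set.ext fun y => ⟨?_, fun hy => ⟨⟨y, hmemK y hy⟩, hE ▸ hy, rfl⟩⟩)).trans hK
    rintro ⟨y, hy, rfl⟩
    exact (hE ▸ hy : y ∈ {y : ↥K | (y : G) ∈ common D a d})
  have hst : ∀ k : ↥K, ∀ y ∈ E, k * y * k⁻¹ ∈ E := by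
    intro k y hy
    rw [hE] at hy ⊢
    show ((k * y * k⁻¹ : ↥K) : G) ∈ common D a d
    have hk := k.2
    simp only [hKdef, mem_centralizer_pair] at hk
    have e1 : (k : G) * a * (k : G)⁻¹ = a := by rw [hk.1.eq, mul_inv_cancel_right]
    have e2 : (k : G) * d * (k : G)⁻¹ = d := by rw [hk.2.eq, mul_inv_cancel_right]
    rw [← e1, ← e2, ← common_conj hT]
    exact ⟨y, hy, rfl⟩
  have hcd : ∀ y ∈ E, (y : G) ∈ D := fun y hy => by rw [hE] at hy; exact hy.1.1
  have hnab : ¬ ∀ y ∈ E, ∀ z ∈ E, Commute y z := fun h => hne (by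
    rw [commutator_def, Subgroup.commutator_eq_bot_iff_le_centralizer, ← hgen, Subgroup.closure_le,
      Subgroup.centralizer_closure]
    exact fun y hy => Subgroup.mem_centralizer_iff.2 fun z hz => (h z hz y hy).eq)
  have hno : ∀ N : Subgroup ↥K, N.Normal → Group.IsSolvable ↥N → N = ⊥ := fun N hN hs =>
    (hnorm N hN).resolve_right fun hle => hne (by
      have : Group.IsSolvable ↥(commutator ↥K) := Lib.Core.isSolvable_of_le hle hs
      by_contra h0
      have : Nontrivial ↥(commutator ↥K) := (Subgroup.nontrivial_iff_ne_bot _).2 h0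
      refine (Group.IsSolvable.commutator_lt_top_of_nontrivial ↥(commutator ↥K)).ne
        (Subgroup.map_injective (commutator ↥K).subtype_injective ?_)
      rw [Subgroup.map_subtype_commutator, hperf, ← MonoidHom.range_eq_map, Subgroup.range_subtype])
  have hcon : ∀ A B : Set ↥K, (∀ k : ↥K, ∀ y ∈ A, k * y * k⁻¹ ∈ A) → (∀ k : ↥K, ∀ y ∈ B, k * y * k⁻¹ ∈ B) →
      (∀ y ∈ A, ∀ z ∈ B, Commute y z) → (∀ y ∈ A, y = 1) ∨ ∀ z ∈ B, z = 1 := by
    intro A B hA hB hAB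
    have hn : ∀ S : Set ↥K, (∀ k : ↥K, ∀ y ∈ S, k * y * k⁻¹ ∈ S) → (Subgroup.closure S).Normal := fun S hS =>
      ⟨fun n hn k => by
        induction hn using Subgroup.closure_induction with
        | mem y hy => exact Subgroup.subset_closure (hS k y hy)
        | one => simp
        | mul x y _ _ h1 h2 => rw [show k * (x * y) * k⁻¹ = k * x * k⁻¹ * (k * y * k⁻¹) by group]; exact mul_mem h1 h2
        | inv x _ h1 => rw [show k * x⁻¹ * k⁻¹ = (k * x * k⁻¹)⁻¹ by group]; exact inv_mem h1⟩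
    rcases hnorm _ (hn A hA) with h | h
    · exact Or.inl fun y hy => (Subgroup.eq_bot_iff_forall _).1 h y (Subgroup.subset_closure hy)
    rcases hnorm _ (hn B hB) with h' | h'
    · exact Or.inr fun y hy => (Subgroup.eq_bot_iff_forall _).1 h' y (Subgroup.subset_closure hy)
    exfalso
    apply hne
    rw [← hperf, Subgroup.commutator_eq_bot_iff_le_centralizer]
    refine h.trans (le_trans ?_ (Subgroup.centralizer_le h'))
    rw [Subgroup.centralizer_closure, Subgroup.closure_le]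
    exact fun y hy => Subgroup.mem_centralizer_iff.2 fun z hz => (hAB y hy z hz).eq.symm
  have hconj : ∀ y ∈ E, ∀ z ∈ E, ¬ Commute y z → ∃ k : ↥K, k * y * k⁻¹ = z := by
    intro y hy z hz hn
    refine ⟨y * z, Subtype.ext ?_⟩
    have hn' : ¬ Commute (y : G) z := fun h => hn (Subtype.ext h.eq)
    show (y : G) * z * y * ((y : G) * z)⁻¹ = z
    rw [mul_inv_rev, inv_eq hT (hcd y hy), inv_eq hT (hcd z hz)]
    have hbr := braid hT (hcd y hy) (hcd z hz) hn'
    calc (y : G) * z * y * (z * y) = cj (y : G) (cj (z : G) y) := by simp only [cj_def, mul_assoc]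
      _ = z := by rw [← hbr, cj_cj hT (hcd y hy)]
  have htr : ∀ y ∈ E, ∀ z ∈ E, ∃ k : ↥K, k * y * k⁻¹ = z := by
    intro y hy z hz
    by_contra hno'
    obtain ⟨A, hA⟩ : ∃ A : Set ↥K, A = {w | w ∈ E ∧ ∃ k : ↥K, k * y * k⁻¹ = w} := ⟨_, rfl⟩
    obtain ⟨B, hB⟩ : ∃ B : Set ↥K, B = {w | w ∈ E ∧ ¬ ∃ k : ↥K, k * y * k⁻¹ = w} := ⟨_, rfl⟩
    have hone : ∀ w ∈ E, w ≠ 1 := fun w hw h => ne_one hT (hcd w hw) (congrArg Subtype.val h)
    rcases hcon A B (by
        rw [hA]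
        rintro k w ⟨hw, j, rfl⟩
        exact ⟨hst k _ hw, k * j, by group⟩) (by
        rw [hB]
        rintro k w ⟨hw, hn⟩
        refine ⟨hst k w hw, fun ⟨j, hj⟩ => hn ⟨k⁻¹ * j, ?_⟩⟩
        rw [show k⁻¹ * j * y * (k⁻¹ * j)⁻¹ = k⁻¹ * (j * y * j⁻¹) * k by group, hj]
        group) (by
        rw [hA, hB]
        rintro w ⟨hw, j, hj⟩ w' ⟨hw', hn⟩
        by_contra hnw
        obtain ⟨k, hk⟩ := hconj w hw w' hw' hnw
        exact hn ⟨k * j, by rw [← hk, ← hj]; group⟩) with h | h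
    · exact hone y hy (h y (hA ▸ ⟨hy, 1, by simp⟩))
    · exact hone z hz (h z (hB ▸ ⟨hz, hno'⟩))
  push Not at hnab
  obtain ⟨y₀, hy₀, z₀, hz₀, hn₀⟩ := hnab
  have hTE : Trans E := by
    refine ⟨?_, hst, htr, hgen, ⟨y₀, hy₀⟩⟩
    refine ⟨fun y hy => ?_, fun y hy z hz => ?_⟩
    · rw [← orderOf_injective K.subtype K.subtype_injective y]
      exact hT.set.1 _ (hcd y hy)
    · rcases hT.set.2 _ (hcd y hy) _ (hcd z hz) with h | h
      · exact Or.inl (Subtype.ext h)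
      · exact Or.inr (Subtype.ext h)
  have hF : IsFischer E := ⟨hTE, hno, hperf⟩
  refine ⟨⟨y₀, by rw [hE] at hy₀; exact hy₀, z₀, by rw [hE] at hz₀; exact hz₀,
    fun h => hn₀ (Subtype.ext h.eq)⟩, fun u hu v hv u' hu' v' hv' huv huv' => ?_⟩
  have hin : ∀ w (hw : w ∈ common D a d), (⟨w, hmemK w hw⟩ : ↥K) ∈ E := fun w hw => hE ▸ hw
  obtain ⟨k₁, hk₁⟩ := htr _ (hin u hu) _ (hin u' hu')
  obtain ⟨k₂, hk₂, hk₂e⟩ := orb_all hF (hin u' hu') (hst k₁ _ (hin v hv)) (hin v' hv')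
    (fun h => huv ((Commute.conj_iff (k₁ : G)).1 (by
      have := h.map K.subtype
      simpa [← hk₁] using this)))
    (fun h => huv' (h.map K.subtype))
  have hku := commute_of_mem_closure hF (hin u' hu') hk₂
  refine ⟨(k₂ * k₁ : ↥K), (k₂ * k₁).2, ?_, ?_⟩
  · have e : k₂ * k₁ * ⟨u, hmemK u hu⟩ * (k₂ * k₁)⁻¹ = ⟨u', hmemK u' hu'⟩ := by
      rw [show k₂ * k₁ * ⟨u, hmemK u hu⟩ * (k₂ * k₁)⁻¹ = k₂ * (k₁ * ⟨u, hmemK u hu⟩ * k₁⁻¹) * k₂⁻¹ by group, hk₁,
        hku.eq, mul_inv_cancel_right]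
    exact congrArg Subtype.val e
  · have e : k₂ * k₁ * ⟨v, hmemK v hv⟩ * (k₂ * k₁)⁻¹ = ⟨v', hmemK v' hv'⟩ := by
      rw [← hk₂e]; group
    exact congrArg Subtype.val e

end Cfsg.Lib.Fischer.Relations.ThreeA
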