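import Cfsg.Agent.Lib.Fischer.Relations.Centralizer.ReflOrder
import Cfsg.Agent.Lib.Fischer.Relations.Levels
import Cfsg.Agent.Lib.Linear.OrthReflThreeStructure

/-!
# Structure of the projective reflection groups over three elements
-/

set_option autoImplicit false
set_option linter.unusedSectionVars false

namespace Cfsg.Lib.Fischer.Relations.ThreeA

open Cfsg Cfsg.Lib.Fischer Cfsg.Lib.Linear.Orth Cfsg.Lib.H3.SylTwo

/-- Every non-trivial normal subgroup contains the perfect derived group, which is not trivial. -/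
theorem proj_refl_normal {X : Type*} [Group X] [Finite X] {n : ℕ} (hn : 5 ≤ n) {μ c : ZMod 3} (hc : c ≠ 0)
    (h : Cfsg.IsProjReflectionGroupModThree X n μ c) :
    (∀ N : Subgroup X, N.Normal → N = ⊥ ∨ commutator X ≤ N) ∧
      ⁅commutator X, commutator X⁆ = commutator X ∧ commutator X ≠ ⊥ := by
  classical
  have : Fact (Nat.Prime 3) := ⟨Nat.prime_three⟩
  obtain ⟨Q, hQ, -, ⟨e⟩⟩ := h
  have C := space_of_quadraticForm Q hQ
  obtain ⟨R, hR⟩ : ∃ R, R = reflectionSubgroup (⇑Q) c := ⟨_, rfl⟩
  have hS := reflections_geometric C (by simpa using hn) hc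
  obtain ⟨f, hf⟩ : ∃ f : ↥(reflectionSubgroup (⇑Q) c) →* X,
      f = e.symm.toMonoidHom.comp (QuotientGroup.mk' _) := ⟨_, rfl⟩
  have hsurj : Function.Surjective f := hf ▸ e.symm.surjective.comp (QuotientGroup.mk'_surjective _)
  have hker : ∀ z, f z = 1 ↔ z ∈ Subgroup.center ↥(reflectionSubgroup (⇑Q) c) := fun z => by
    rw [hf, MonoidHom.comp_apply, MulEquiv.coe_toMonoidHom, MulEquiv.map_eq_one_iff]
    exact QuotientGroup.eq_one_iff z
  have hq := (reflectionSubgroup_structure C (by simpa using hn) hc).1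
  have hcomp : Cfsg.IsComponent (commutator ↥(reflectionSubgroup (⇑Q) c)) :=
    ⟨Subgroup.Normal.isSubnormal inferInstance, hq⟩
  have hmap : (commutator ↥(reflectionSubgroup (⇑Q) c)).map f = commutator X := by
    rw [commutator_def, commutator_def, Subgroup.map_commutator, Subgroup.map_top_of_surjective f hsurj]
  refine ⟨fun N hN => ?_, ?_, fun h0 => ?_⟩
  · rcases Lib.Core.component_le_or_commute hcomp
      (Subgroup.Normal.isSubnormal (hN.comap f)) with h | h
    · exact Or.inr (hmap ▸ (Subgroup.map_mono h).trans (Subgroup.map_comap_le f N))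
    · refine Or.inl ((Subgroup.eq_bot_iff_forall N).2 fun y hy => ?_)
      obtain ⟨z, rfl⟩ := hsurj y
      rw [Subgroup.commutator_comm, Subgroup.commutator_eq_bot_iff_le_centralizer] at h
      exact (hker z).2 (hS.centralizer_derived (h (Subgroup.mem_comap.2 hy)))
  · rw [← hmap, ← Subgroup.map_commutator, Lib.Core.IsComponent.commutator_eq hcomp]
  · refine Lib.Core.component_not_le_solvable hcomp
      (H := Subgroup.center ↥(reflectionSubgroup (⇑Q) c)) (Group.isSolvable_of_comm fun x y => mul_comm' x y) fun z hz => (hker z).1 ?_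
    rw [← hmap, Subgroup.map_eq_bot_iff] at h0
    exact h0 hz

end Cfsg.Lib.Fischer.Relations.ThreeA
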